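import Cfsg.Agent.K3.Tool
import Cfsg.Agent.RankOne.Basic

/-! The principal block of a simple group with a self-centralising Sylow subgroup of prime order
with dihedral normaliser. -/

set_option autoImplicit false
set_option linter.style.haveILetI false
set_option linter.unusedSectionVars false

namespace Cfsg.Agent.Alex

open Subgroup Cfsg.Agent.Char Cfsg.Agent.Char.Euclid Cfsg.Agent.Block Cfsg.Agent.Math Cfsg.Agent.K3
open scoped ComplexConjugate

/-- the order of the centraliser -/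
noncomputable abbrev cc {G : Type*} [Group G] (g : G) : ℕ := Nat.card (centralizer ({g} : Set G))

/-- a set of representatives of non-trivial regular classes -/
def Rep {G : Type*} [Group G] (p : ℕ) (T : Finset G) : Prop :=
  (∀ g ∈ T, g ≠ 1 ∧ ¬ p ∣ orderOf g) ∧ ∀ g ∈ T, ∀ h ∈ T, IsConj g h → g = h

/-- the numerical data -/
structure Dat (G : Type*) [Group G] (p : ℕ) where
  x : ℕ
  y : ℕ
  m : ℕ
  W : ℕ
  δ : ℤ
  b : G → ℤ
  j : G → ℕ
  χ : IrrCharacter G
  θ : IrrCharacter G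
  hδ : δ = 1 ∨ δ = -1
  hy : (y : ℤ) = x + δ
  x2 : 2 ≤ x
  y2 : 2 ≤ y
  card : Nat.card G = p * m
  hmod : m % (2 * p) = 2
  px : (p : ℤ) ∣ x - δ
  dχ : dg χ = x
  dθ : dg θ = y
  hχ : ∀ g, χ.1 g = b g
  hθ : ∀ g, ¬ p ∣ orderOf g → θ.1 g = (b g + δ : ℤ)
  lt : ∀ g, g ≠ 1 → b g < x
  xm : x ∣ m
  ym : y ∣ m
  hj : ∀ g, g ≠ 1 → ¬ p ∣ orderOf g → j g * cc g = m
  cj : ∀ s t : G, orderOf s = 2 → orderOf t = 2 → IsConj s t
  hW : W * W = m * (x * y)
  Wt : ∀ t, orderOf t = 2 → (W : ℤ) = j t * (x - b t)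
  Wg : ∀ g, g ≠ 1 → ¬ p ∣ orderOf g → (W : ℤ) ∣ j g * (x - b g)
  s1 : ∀ T : Finset G, Rep p T → x * y + p * ∑ g ∈ T, j g * (b g * (b g + δ)) ≤ m
  s2 : ∀ T : Finset G, Rep p T →
    y * (y + δ) + p * ∑ g ∈ T, j g * ((b g + δ) * (b g + 2 * δ)) ≤ 3 * m

variable {G : Type*} [Group G] [Finite G] {p : ℕ}

theorem sum_rep [Fintype G] [DecidableEq G] {T : Finset G} (hT : Rep p T) (hp : p ≠ 1) {w : G → ℤ}
    (h0 : ∀ g, 0 ≤ w g) (hw : ∀ g h, IsConj g h → w g = w h) :
    w 1 + ∑ g ∈ T, (centralizer ({g} : Set G)).index * w g ≤ ∑ g ∈ (sset G p)ᶜ, w g := by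
  classical
  have h1 : ∀ g, ∑ h ∈ Finset.univ.filter (IsConj g), w h =
      (centralizer ({g} : Set G)).index * w g := fun g => by
    rw [Finset.sum_congr rfl (g := fun _ => w g) fun h hh => (hw _ _ (Finset.mem_filter.1 hh).2).symm,
      Finset.sum_const, ← ncard_isConj, nsmul_eq_mul, ← Set.ncard_coe_finset,
      Finset.coe_filter_univ]
  rw [← Finset.sum_congr rfl fun g _ => h1 g, ← Finset.sum_biUnion fun g hg h hh e =>
    Finset.disjoint_left.2 fun z h2 h3 => e (hT.2 g hg h hh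
      ((Finset.mem_filter.1 h2).2.trans (Finset.mem_filter.1 h3).2.symm)), ← Finset.sum_insert]
  · refine Finset.sum_le_sum_of_subset_of_nonneg (fun z hz => ?_) fun z _ _ => h0 z
    rw [Finset.mem_compl, mem_sset]
    rcases Finset.mem_insert.1 hz with rfl | hz
    · simpa using hp
    · obtain ⟨g, hg, h2⟩ := Finset.mem_biUnion.1 hz
      obtain ⟨c, rfl⟩ := isConj_iff.1 (Finset.mem_filter.1 h2).2
      rw [show orderOf (c * g * c⁻¹) = orderOf g from
        orderOf_injective (MulAut.conj c).toMonoidHom (MulAut.conj c).injective g]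
      exact (hT.1 g hg).2
  · intro hz
    obtain ⟨g, hg, h2⟩ := Finset.mem_biUnion.1 hz
    exact (hT.1 g hg).1 (isConj_one_left.1 (Finset.mem_filter.1 h2).2)

theorem consec2 {δ : ℤ} (hδ : δ = 1 ∨ δ = -1) (b : ℤ) :
    0 ≤ b * (b + δ) ∧ 0 ≤ (b + δ) * (b + 2 * δ) := by
  have h : ∀ b : ℤ, 0 ≤ b * (b + δ) := fun b => by
    rcases hδ with rfl | rfl <;> rcases le_or_gt b 0 with h | h <;>
      rcases le_or_gt b (-1) with h' | h' <;> nlinarith
  have := h (b + δ)
  exact ⟨h b, by rwa [add_assoc, ← two_mul] at this⟩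

theorem exists_dat [IsSimpleGroup G] (hG : ¬ IsMulCommutative G) [hp : Fact p.Prime] {u : G}
    (D : BD p u) (hc : D.c = 1) (he : D.e = 2) : Nonempty (Dat G p) := by
  classical
  haveI := Fintype.ofFinite G
  have hC := D.cent_of_c hc
  have ord : ∀ g : G, p ∣ orderOf g → orderOf g = p := fun g =>
    Grp.SelfCent.orderOf_eq_of_dvd D.ox hC
  obtain ⟨φ, hφ⟩ := Finset.card_eq_one.1 (show (D.X.erase (irrOne G)).card = 1 by
    rw [Finset.card_erase_of_mem D.h1, D.cardX, he])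
  obtain ⟨φ1, φX⟩ := Finset.mem_erase.1 (hφ ▸ Finset.mem_singleton_self φ)
  have hX : D.X = {irrOne G, φ} := by rw [← Finset.insert_erase D.h1, hφ]
  obtain ⟨θ, hθ⟩ := D.Y_nonempty
  have θ1 : θ ≠ irrOne G := fun h => Finset.disjoint_left.1 D.disj D.h1 (h ▸ hθ)
  have e := D.deg_eq
  rw [hX, Finset.sum_pair φ1.symm, D.ε_one, one_mul] at e
  change _ = (dg (irrOne G) : ℤ) + _ * dg φ at e
  rw [dg_irrOne, ← D.dg_Y hθ] at e
  have n1 : dg φ ≠ 1 := fun h => φ1 (dg_eq_one hG _ h)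
  have n2 : dg θ ≠ 1 := fun h => θ1 (dg_eq_one hG _ h)
  have p1 := dg_pos φ
  have p2 := dg_pos θ
  have s2 := D.signY
  have s1 : D.ε φ = D.δ := by
    rcases D.sign φ φX with h | h <;> rcases s2 with h' | h' <;> rw [h, h'] at e <;> omega
  have hy : (dg θ : ℤ) = dg φ + D.δ := by
    rw [s1] at e
    rcases s2 with h' | h' <;> rw [h'] at e ⊢ <;> omega
  have δδ : D.δ * D.δ = 1 := by rcases s2 with h | h <;> simp [h]
  have δδ' : (D.δ : ℂ) * D.δ = 1 := by exact_mod_cast δδ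
  have vX : ∀ g, p ∣ orderOf g → φ.1 g = D.δ := fun g hg => s1 ▸ D.valX_of_dvd D.ox hC φX hg
  have rat : ∀ g, ∃ z : ℤ, φ.1 g = z := rat_of φ fun σ => by
    by_contra h
    have := D.out hC (galIrr σ φ) (by
      rw [hX, Finset.mem_insert, Finset.mem_singleton, not_or]
      exact ⟨fun e => n1 (by rw [← dg_gal σ, e, dg_irrOne]), h⟩)
      (fun h => by have := D.dg_Y h; rw [dg_gal, ← D.dg_Y hθ] at this; omega) u (D.ox ▸ dvd_rfl)
    rw [galIrr_apply, vX u (D.ox ▸ dvd_rfl), map_intCast, Int.cast_eq_zero] at this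
    omega
  choose b hb using rat
  have vY : ∀ ψ ∈ D.Y, ∀ g, ¬ p ∣ orderOf g → ψ.1 g = (b g + D.δ : ℤ) := fun ψ h g hg => by
    have h1 := D.rel ψ h g hg
    rw [hX, Finset.sum_pair φ1.symm, D.ε_one, s1, irrOne_apply, hb] at h1
    push_cast at h1 ⊢
    linear_combination D.δ * h1 - (ψ.1 g - b g) * δδ'
  have bS : ∀ g, p ∣ orderOf g → b g = D.δ := fun g hg => by
    exact_mod_cast (hb g).symm.trans (vX g hg)
  have b1 : b 1 = dg φ := by exact_mod_cast (hb 1).symm.trans (dg_cast φ).symm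
  have lt : ∀ g, g ≠ 1 → b g < dg φ := fun g hg => lt_dg φ1 hg (hb g)
  have bc : ∀ g h, IsConj g h → b g = b h := fun g h e => by
    obtain ⟨c, rfl⟩ := isConj_iff.1 e
    exact_mod_cast (hb g).symm.trans ((φ.2.isClassFunction g c).symm.trans (hb _))
  have card : Nat.card G = p * (D.k * 2) := by rw [D.card_G, hc, he, mul_one]
  obtain ⟨k1, -⟩ := D.data hG
  generalize hm : D.k * 2 = m at card
  have pm : ¬ p ∣ m := fun h => D.nsq (by rw [card, sq]; exact Nat.mul_dvd_mul_left _ h)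
  have cop : ∀ {n}, ¬ p ∣ n → n ∣ Nat.card G → n ∣ m := fun h1 h2 =>
    ((Nat.Prime.coprime_iff_not_dvd hp.out).2 h1).symm.dvd_of_dvd_mul_left (card ▸ h2)
  have px := D.not_dvd_dg (D.mem_blk.2 (.inl φX))
  have py := D.not_dvd_dg (D.mem_blk.2 (.inr hθ))
  have pc : ∀ g : G, g ≠ 1 → ¬ p ∣ orderOf g → cc g ∣ m := fun g h1 h2 => cop (fun h => by
    obtain ⟨v, hv⟩ := exists_prime_orderOf_dvd_card' (G := centralizer ({g} : Set G)) p h
    rw [← orderOf_coe] at hv
    have e := Commute.orderOf_mul_eq_mul_orderOf_of_coprime (mem_centralizer_singleton_iff.1 v.2)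
      (by rw [hv]; exact (Nat.Prime.coprime_iff_not_dvd hp.out).2 h2)
    rw [ord _ (by rw [e, hv]; exact dvd_mul_right _ _), hv] at e
    exact h1 (orderOf_eq_one_iff.1 (Nat.eq_of_mul_eq_mul_left hp.out.pos (by omega))))
    (card_subgroup_dvd_card _)
  have hj : ∀ g : G, g ≠ 1 → ¬ p ∣ orderOf g → m / cc g * cc g = m := fun g h1 h2 =>
    Nat.div_mul_cancel (pc g h1 h2)
  have idx : ∀ g : G, g ≠ 1 → ¬ p ∣ orderOf g →
      (centralizer ({g} : Set G)).index = p * (m / cc g) := fun g h1 h2 =>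
    Nat.eq_of_mul_eq_mul_right (Nat.card_pos (α := centralizer ({g} : Set G))) (by
      rw [index_mul_card, card, mul_assoc, hj g h1 h2])
  have m0 : (m : ℂ) ≠ 0 := Nat.cast_ne_zero.2 fun h => pm (h ▸ dvd_zero p)
  have x0 : (dg φ : ℂ) ≠ 0 := Nat.cast_ne_zero.2 p1.ne'
  have y0 : (dg θ : ℂ) ≠ 0 := Nat.cast_ne_zero.2 p2.ne'
  have hy' : (dg θ : ℂ) = dg φ + D.δ := by exact_mod_cast hy
  -- the class multiplication coefficients
  have quad : ∀ s t : G, s ≠ 1 → ¬ p ∣ orderOf s → t ≠ 1 → ¬ p ∣ orderOf t →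
      (pairs s t u : ℤ) * (m * (dg φ * dg θ)) =
        p * ((m / cc s : ℕ) * (dg φ - b s)) * ((m / cc t : ℕ) * (dg φ - b t)) := by
    intro s t s1 sp t1 tp
    have h2 := card_class_pairs s t u
    have h5 := congrArg conj (D.sumY' (mem_zpowers u) (Grp.SelfCent.ne_one D.ox))
    rw [map_sum, map_neg, map_intCast] at h5
    rw [← Finset.sum_subset (D.X ∪ D.Y).subset_univ fun ψ _ hψ => by
        rw [Finset.mem_union, not_or] at hψ
        rw [D.out hC ψ hψ.1 hψ.2 u (D.ox ▸ dvd_rfl)]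
        simp, Finset.sum_union D.disj, hX, Finset.sum_pair φ1.symm,
      Finset.sum_congr rfl (g := fun ψ : IrrCharacter G =>
        (b s + D.δ : ℤ) * (b t + D.δ : ℤ) / dg θ * conj (ψ.1 u)) fun ψ hψ => by
          rw [vY ψ hψ s sp, vY ψ hψ t tp, ← dg_cast, D.dg_Y hψ, D.dg_Y hθ]
          ring, ← Finset.mul_sum, h5, vX u (D.ox ▸ dvd_rfl), hb, hb, ← dg_cast φ, map_intCast] at h2
    simp only [irrOne_apply, map_one, mul_one, div_one] at h2
    have i1 : (Nat.card {x : G // IsConj s x} : ℂ) = p * (m / cc s : ℕ) := by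
      exact_mod_cast (ncard_isConj s).trans (idx s s1 sp)
    have i2 : (Nat.card {x : G // IsConj t x} : ℂ) = p * (m / cc t : ℕ) := by
      exact_mod_cast (ncard_isConj t).trans (idx t t1 tp)
    have p0 : (p : ℂ) ≠ 0 := Nat.cast_ne_zero.2 hp.out.ne_zero
    have h4 : (pairs s t u : ℂ) * (m * (dg φ * dg θ)) =
        p * ((m / cc s : ℕ) * (dg φ - b s)) * ((m / cc t : ℕ) * (dg φ - b t)) := by
      unfold pairs
      rw [h2, i1, i2, card]
      push_cast
      field_simp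
      rw [hy']
      generalize ((m / cc s : ℕ) : ℂ) = i, ((m / cc t : ℕ) : ℂ) = j
      linear_combination (i * j * (b s * b t - dg φ * (b s + b t) - dg φ * D.δ)) * δδ'
    generalize m / cc s = i, m / cc t = j at h4 ⊢
    exact_mod_cast h4
  obtain ⟨t, t1, tt, ht⟩ := D.exists_inv hc (he ▸ dvd_rfl)
  have inv : ∀ s : G, orderOf s = 2 → s ≠ 1 ∧ s * s = 1 ∧ ¬ p ∣ orderOf s := fun s hs => by
    have h : s * s = 1 := by rw [← sq, ← hs, pow_orderOf_eq_one]
    exact ⟨by rintro rfl; simp at hs, h, not_dvd_orderOf h hp.out D.odd⟩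
  have tp := not_dvd_orderOf tt hp.out D.odd
  have jp : ∀ g : G, g ≠ 1 → ¬ p ∣ orderOf g → 0 < ((m / cc g : ℕ) : ℤ) * (dg φ - b g) := fun g h1 h2 =>
    mul_pos (Nat.cast_pos.2 (Nat.pos_of_ne_zero fun h => pm (by
      rw [← hj g h1 h2, h, zero_mul]; exact dvd_zero p))) (sub_pos.2 (lt g h1))
  have p0 : (0 : ℤ) < p := Nat.cast_pos.2 hp.out.pos
  have cj : ∀ s : G, orderOf s = 2 → IsConj t s := fun s hs => by
    obtain ⟨s1, ss, sp⟩ := inv s hs
    have h : pairs t s u ≠ 0 := fun h => by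
      have := quad t s t1 tp s1 sp
      rw [h] at this
      exact (mul_pos (mul_pos p0 (jp t t1 tp)) (jp s s1 sp)).ne (by simpa using this)
    obtain ⟨⟨⟨v, w⟩, h5, h6, h7⟩⟩ := (Nat.card_ne_zero.1 h).1
    obtain ⟨n, hn⟩ := RankOne.conj_of_odd (sq_of_isConj tt h5) (sq_of_isConj ss h6)
      (by rw [show v * w = u from h7, D.ox]; exact hp.out.odd_of_ne_two D.odd)
    exact h5.trans ((isConj_iff.2 ⟨_, hn⟩).symm.trans h6.symm)
  obtain ⟨W, hW⟩ := Int.eq_ofNat_of_zero_le (jp t t1 tp).le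
  have hW2 : W * W = m * (dg φ * dg θ) := by
    have := quad t t t1 tp t1 tp
    rw [ht, hW, mul_assoc] at this
    exact_mod_cast (mul_left_cancel₀ p0.ne' this).symm
  -- orthogonality
  have A1 : ∑ g, b g = 0 := by
    have h := sum_mul_conj_eq φ.1 (irrOne G).1
    rw [φ.2.inner_eq_zero (irrOne G).2 fun h => φ1 (Subtype.ext h)] at h
    simp only [irrOne_apply, map_one, mul_one, hb, mul_zero] at h
    exact_mod_cast h
  have A2 : ∑ g, b g * b g = p * m := by
    have h := sum_mul_conj_eq φ.1 φ.1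
    simp only [φ.2.inner_self, hb, map_intCast, mul_one, card] at h
    exact_mod_cast h
  have A3 : ∑ g, D.Θ g = 0 := by
    simp only [D.Θ_apply]
    rw [Finset.sum_comm]
    refine Finset.sum_eq_zero fun ψ hψ => ?_
    have h := sum_mul_conj_eq ψ.1 (irrOne G).1
    rw [ψ.2.inner_eq_zero (irrOne G).2 fun h => Finset.disjoint_left.1 D.disj D.h1
      ((Subtype.ext h : ψ = irrOne G) ▸ hψ)] at h
    simpa only [irrOne_apply, map_one, mul_one, mul_zero] using h
  have A4 : ((sset G p).card : ℤ) + ((sset G p)ᶜ).card = p * m := by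
    exact_mod_cast (Finset.card_add_card_compl _).trans (Nat.card_eq_fintype_card.symm.trans card)
  rw [← Finset.sum_add_sum_compl (sset G p)] at A1 A2 A3
  rw [Finset.sum_congr rfl fun g hg => bS g (mem_sset.1 hg), Finset.sum_const, nsmul_eq_mul] at A1
  rw [Finset.sum_congr rfl (g := fun _ => 1) fun g hg => by rw [bS g (mem_sset.1 hg), δδ],
    Finset.sum_const, nsmul_eq_mul] at A2
  rw [Finset.sum_congr rfl fun g hg => D.Θ_of_dvd D.ox hC (mem_sset.1 hg), Finset.sum_const,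
    nsmul_eq_mul, Finset.sum_congr rfl (g := fun g => (D.Y.card : ℂ) * (b g + D.δ : ℤ))
      fun g hg => by
        rw [Finset.mem_compl, mem_sset] at hg
        rw [D.Θ_regular hθ hg, vY θ hθ g hg], ← Finset.mul_sum] at A3
  have A5 : ((sset G p).card : ℤ) * -D.δ + D.Y.card * ∑ g ∈ (sset G p)ᶜ, (b g + D.δ) = 0 := by
    exact_mod_cast A3
  rw [Finset.sum_add_distrib, Finset.sum_const, nsmul_eq_mul] at A5
  have A6 : (D.Y.card : ℤ) * 2 + 1 = p := by
    have := D.cardY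
    have := hp.out.pos
    rw [he] at *
    omega
  have A7 : ((sset G p).card : ℤ) = D.Y.card * m := mul_left_cancel₀ p0.ne' (by
    linear_combination -D.δ * A5 + D.δ * D.Y.card * A1 + D.Y.card * A4 - (sset G p).card * A6 +
      (D.Y.card * (((sset G p)ᶜ).card - (sset G p).card) - (sset G p).card) * δδ)
  have B1 : ∑ g ∈ (sset G p)ᶜ, b g * (b g + D.δ) = m := by
    simp only [mul_add, Finset.sum_add_distrib, ← Finset.sum_mul]
    linear_combination A2 + D.δ * A1 - 2 * A7 - m * A6 - (sset G p).card * δδ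
  have B2 : ∑ g ∈ (sset G p)ᶜ, (b g + D.δ) * (b g + 2 * D.δ) = 3 * m := by
    rw [Finset.sum_congr rfl (g := fun g => b g * b g + b g * (3 * D.δ) + 2) fun g _ => by
      linear_combination 2 * δδ]
    simp only [Finset.sum_add_distrib, ← Finset.sum_mul, Finset.sum_const, nsmul_eq_mul]
    linear_combination A2 + 3 * D.δ * A1 + 2 * A4 - 6 * A7 - 3 * m * A6 - 3 * (sset G p).card * δδ
  refine ⟨⟨dg φ, dg θ, m, W, D.δ, b, fun g => m / cc g, φ, θ, s2, hy, by omega, by omega, card, ?_,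
    ?_, rfl, rfl, hb, vY θ hθ, lt, cop px (dg_dvd φ), cop py (dg_dvd θ), hj,
    fun s t hs ht => (cj s hs).symm.trans (cj t ht), hW2, fun s hs => ?_, fun g g1 gp => ?_,
    fun T hT => ?_, fun T hT => ?_⟩⟩
  · rw [← hm, mul_comm D.k, Nat.mul_mod_mul_left, k1]
  · exact s1 ▸ (D.degX φ φX).symm.dvd
  · obtain ⟨s1, -, sp⟩ := inv s hs
    have h1 := idx s s1 sp
    rw [← ncard_isConj, show {b | IsConj s b} = {b | IsConj t b} from Set.ext fun z =>
      ⟨(cj s hs).trans, (cj s hs).symm.trans⟩, ncard_isConj, idx t t1 tp] at h1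
    rw [← hW, bc _ _ (cj s hs), Nat.eq_of_mul_eq_mul_left hp.out.pos h1]
  · have h1 := quad t g t1 tp g1 gp
    have W0 : (W : ℤ) ≠ 0 := hW ▸ (jp t t1 tp).ne'
    have h2 : (pairs t g u : ℤ) * W = p * ((m / cc g : ℕ) * (dg φ - b g)) := mul_left_cancel₀ W0 (by
      rw [hW, show (m : ℤ) * (dg φ * dg θ) = W * W by exact_mod_cast hW2.symm] at h1
      linear_combination h1)
    refine IsCoprime.dvd_of_dvd_mul_left (y := (p : ℤ)) ?_ (h2 ▸ dvd_mul_left _ _)
    refine (Nat.isCoprime_iff_coprime.2 ((Nat.Prime.coprime_iff_not_dvd hp.out).2 fun h => ?_)).symm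
    rcases (Nat.Prime.dvd_mul hp.out).1 (hW2 ▸ h.mul_right W) with h | h
    · exact pm h
    · exact ((Nat.Prime.dvd_mul hp.out).1 h).elim px py
  · have h := sum_rep hT hp.out.ne_one (w := fun g => b g * (b g + D.δ))
      (fun g => (consec2 s2 _).1) fun g h e => by simp only [bc g h e]
    rw [B1, b1, ← hy, Finset.sum_congr rfl fun g hg => by
      rw [idx g (hT.1 g hg).1 (hT.1 g hg).2, Nat.cast_mul, mul_assoc], ← Finset.mul_sum] at h
    exact h
  · have h := sum_rep hT hp.out.ne_one (w := fun g => (b g + D.δ) * (b g + 2 * D.δ))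
      (fun g => (consec2 s2 _).2) fun g h e => by simp only [bc g h e]
    rw [B2, b1, two_mul, ← add_assoc, ← hy, Finset.sum_congr rfl fun g hg => by
      rw [idx g (hT.1 g hg).1 (hT.1 g hg).2, Nat.cast_mul, mul_assoc], ← Finset.mul_sum] at h
    simpa only [two_mul] using h

end Cfsg.Agent.Alex
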