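import Mathlib
import Cfsg.Agent.Grp.PChain
import Cfsg.Agent.Grp.IndexPrimeComm
import Cfsg.Agent.Solv.Frobenius
import Cfsg.Agent.FT.PF6Grp
import Cfsg.Agent.Char.InvSylow
import Cfsg.Agent.Math.Kit3

/-! Group theoretic lemmas. -/

set_option autoImplicit false
set_option linter.style.haveILetI false

namespace Cfsg.Agent.Alex

open Subgroup

theorem comm_of_center {A : Type*} [Group A] [Finite A] {p : ℕ} [hp : Fact p.Prime]
    (hA : Nat.card A = p ^ 3) (h : p < Nat.card (center A)) : IsMulCommutative A := by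
  obtain ⟨l, -, hl⟩ := IsPGroup.card_center_eq_prime_pow hA (by norm_num)
  have h1 : 1 < l := (Nat.pow_lt_pow_iff_right hp.out.one_lt).1 (by rwa [pow_one, ← hl])
  have h2 : Nat.card (A ⧸ center A) ∣ p := by
    have h3 := card_eq_card_quotient_mul_card_subgroup (center A)
    rw [hA, hl] at h3
    obtain ⟨m, rfl⟩ : ∃ m, l = m + 2 := ⟨l - 2, by omega⟩
    refine ⟨p ^ m, Nat.eq_of_mul_eq_mul_right (pow_pos hp.out.pos 2) ?_⟩
    rw [mul_assoc, ← pow_add, ← h3]; ring
  haveI : IsCyclic (A ⧸ center A) := isCyclic_of_card_dvd_prime h2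
  exact isMulCommutative_of_isCyclic_quotient_center_self A

theorem exists_comm_cube {P : Type*} [Group P] [Finite P] {p : ℕ} [hp : Fact p.Prime]
    (hP : Nat.card P = p ^ 4) : ∃ A : Subgroup P, Nat.card A = p ^ 3 ∧ IsMulCommutative A := by
  have hG : IsPGroup p P := IsPGroup.of_card hP
  have p1 := hp.out.one_lt
  obtain ⟨B, hB, -, hc⟩ := Grp.PChain.exists_normal_le_card hG ⊤ 2
    (by rw [card_top, hP]; exact Nat.pow_le_pow_right p1.le (by norm_num))
  by_cases h : B ≤ center P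
  · obtain ⟨A, hA, hBA⟩ := Sylow.exists_subgroup_card_pow_prime_le p (m := 3)
      (hP ▸ pow_dvd_pow p (by norm_num)) B hc (by norm_num)
    refine ⟨A, hA, comm_of_center hA (lt_of_lt_of_le ?_ (card_le_of_le (H := B.subgroupOf A)
      fun z hz => mem_center_iff.2 fun g => Subtype.ext (mem_center_iff.1 (h hz) g)))⟩
    rw [Grp.card_subgroupOf_of_le hBA, hc]
    nlinarith
  obtain ⟨x, xB, hx⟩ := SetLike.not_le_iff_exists.1 h
  have h1 : (centralizer ({x} : Set P)).index < p ^ 2 := by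
    rw [← Math.ncard_isConj, ← hc]
    refine Set.ncard_lt_ncard (s := {b | IsConj x b}) (t := B) ⟨fun b hb => ?_, fun hh => ?_⟩
    · obtain ⟨c, rfl⟩ := isConj_iff.1 hb
      exact hB.conj_mem x xB c
    · exact hx (isConj_one_left.1 (hh B.one_mem) ▸ one_mem _)
  obtain ⟨i, -, hi⟩ := (Nat.dvd_prime_pow hp.out).1 (hP ▸ (centralizer ({x} : Set P)).index_dvd_card)
  have h2 : i < 2 := (Nat.pow_lt_pow_iff_right p1).1 (hi ▸ h1)
  have h3 : i ≠ 0 := by
    rintro rfl
    rw [pow_zero, index_eq_one] at hi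
    exact hx (mem_center_iff.2 fun g => mem_centralizer_singleton_iff.1 (hi ▸ mem_top g))
  obtain rfl : i = 1 := by omega
  set C := centralizer ({x} : Set P) with hC
  have hCc : Nat.card C = p ^ 3 := Nat.eq_of_mul_eq_mul_right hp.out.pos (by
    have := card_mul_index C
    rw [hi, hP, pow_one] at this
    rw [this]; ring)
  have hZC : center P ≤ C := fun z hz =>
    mem_centralizer_singleton_iff.2 (mem_center_iff.1 hz x).symm
  have hlt : (center P).subgroupOf C < center C := by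
    refine lt_of_le_of_ne (fun z hz => mem_center_iff.2 fun g =>
      Subtype.ext (mem_center_iff.1 hz g)) fun h => hx ?_
    have : (⟨x, mem_centralizer_singleton_iff.2 rfl⟩ : C) ∈ center C :=
      mem_center_iff.2 fun g => Subtype.ext (mem_centralizer_singleton_iff.1 g.2)
    rwa [← h] at this
  have h4 := Grp.card_lt_of_lt hlt
  rw [Grp.card_subgroupOf_of_le hZC] at h4
  obtain ⟨k, hk0, hk⟩ := IsPGroup.card_center_eq_prime_pow hP (by norm_num)
  exact ⟨C, hCc, comm_of_center hCc (lt_of_le_of_lt (hk ▸ Nat.le_self_pow hk0.ne' p) h4)⟩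

variable {G : Type*} [Group G] [Finite G]

theorem exists_E8 (h : ¬ PRankLE 2 2 G) :
    ∃ E : Subgroup G, Nat.card E = 8 ∧ ∀ e ∈ E, e * e = 1 := by
  simp only [PRankLE, not_forall, not_le] at h
  obtain ⟨A, -, h1, h2⟩ := h
  haveI : Fact (Nat.Prime 2) := ⟨Nat.prime_two⟩
  obtain ⟨k, hk⟩ := IsPGroup.iff_card.1 (show IsPGroup 2 A from fun a => ⟨1, Subtype.ext (h1 a a.2)⟩)
  have h3 : 2 < k := (Nat.pow_lt_pow_iff_right one_lt_two).1 (hk ▸ h2)
  obtain ⟨E, hE⟩ := Sylow.exists_subgroup_card_pow_prime (G := A) 2 (n := 3) (hk ▸ pow_dvd_pow 2 h3)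
  refine ⟨E.map A.subtype, by rw [card_map_of_injective A.subtype_injective, hE]; rfl, ?_⟩
  rintro _ ⟨e, -, rfl⟩
  exact (sq _).symm.trans (h1 e e.2)

theorem comm_of_sq {E : Subgroup G} (h : ∀ e ∈ E, e * e = 1) {a b : G} (ha : a ∈ E) (hb : b ∈ E) :
    a * b = b * a := by
  have h1 := h _ (mul_mem ha hb)
  calc a * b = a * (a * b * (a * b)) * b := by rw [h1, mul_one]
    _ = (a * a) * (b * a) * (b * b) := by group
    _ = _ := by rw [h a ha, h b hb, one_mul, mul_one]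

theorem comm_of_16 (h32 : ¬ 32 ∣ Nat.card G)
    (cj : ∀ s t : G, orderOf s = 2 → orderOf t = 2 → IsConj s t) {E : Subgroup G}
    (hE : Nat.card E = 8) (h2 : ∀ e ∈ E, e * e = 1) :
    ∃ S : Sylow 2 G, IsMulCommutative (S : Subgroup G) := by
  haveI : Fact (Nat.Prime 2) := ⟨Nat.prime_two⟩
  obtain ⟨S, hS⟩ := (IsPGroup.of_card (p := 2) (n := 3) hE).exists_le_sylow
  refine ⟨S, ?_⟩
  have h1 := Grp.card_mul_relIndex hS
  have h3 : E.relIndex S ∣ 2 := by
    obtain ⟨k, hk⟩ := IsPGroup.iff_card.1 S.isPGroup'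
    obtain ⟨i, -, hi⟩ := (Nat.dvd_prime_pow Nat.prime_two).1 (hk ▸ Dvd.intro_left _ h1)
    have : i ≤ 1 := by
      by_contra h
      refine h32 (Dvd.dvd.trans ?_ (S : Subgroup G).card_subgroup_dvd_card)
      rw [← h1, hE, hi]
      exact Nat.mul_dvd_mul_left 8 (pow_dvd_pow 2 (show 2 ≤ i by omega))
    exact hi ▸ (pow_dvd_pow 2 this).trans (by norm_num)
  have hc : ∀ {a b : G}, a ∈ E → b ∈ E → a * b = b * a := comm_of_sq h2
  by_contra hn
  have h4 : E.relIndex S = 2 := ((Nat.dvd_prime Nat.prime_two).1 h3).resolve_left fun h => hn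
    ⟨⟨fun a b => Subtype.ext (hc (relIndex_eq_one.1 h a.2) (relIndex_eq_one.1 h b.2))⟩⟩
  have mul : ∀ {a b : G}, a ∈ S → b ∈ S → (a * b ∈ E ↔ (a ∈ E ↔ b ∈ E)) := fun {a b} ha hb =>
    mul_mem_iff_of_index_two (H := E.subgroupOf S) h4 (a := ⟨a, ha⟩) (b := ⟨b, hb⟩)
  obtain ⟨s, sS, sE⟩ : ∃ s ∈ S, s ∉ E := by
    by_contra h
    push Not at h
    rw [relIndex_eq_one.2 h] at h4
    omega
  have dec : ∀ a ∈ S, a ∈ E ∨ ∃ e ∈ E, a = e * s := fun a ha => (em _).imp_right fun h =>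
    ⟨a * s⁻¹, (mul ha (inv_mem sS)).2 (by simp [h, sE]), by simp⟩
  have cn : ∀ e ∈ E, s * e * s⁻¹ ∈ E := fun e he =>
    (mul (mul_mem sS (hS he)) (inv_mem sS)).2 (by simp [mul sS (hS he), sE, he])
  have ss : s * s ∈ E := (mul sS sS).2 Iff.rfl
  have inv : ∀ e ∈ E, e⁻¹ = e := fun e he => inv_eq_of_mul_eq_one_right (h2 e he)
  let f : E →* E := MonoidHom.mk' (fun e => ⟨e * (s * e * s⁻¹), mul_mem e.2 (cn e e.2)⟩) fun a b =>
    Subtype.ext (by
      change a * b * (s * (a * b) * s⁻¹) = a * (s * a * s⁻¹) * (b * (s * b * s⁻¹))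
      rw [← conj_mul, mul_assoc (a : G), ← mul_assoc (b : G), ← hc (cn a a.2) b.2]
      group)
  have ker : ∀ e : E, e ∈ f.ker ↔ s * e * s⁻¹ = e := fun e => by
    rw [MonoidHom.mem_ker, Subtype.ext_iff]
    change e * (s * e * s⁻¹) = 1 ↔ _
    rw [mul_eq_one_iff_inv_eq, inv e e.2, eq_comm]
  have le : f.range ≤ f.ker := by
    rintro _ ⟨e, rfl⟩
    rw [ker]
    change s * (e * (s * e * s⁻¹)) * s⁻¹ = e * (s * e * s⁻¹)
    rw [← conj_mul, hc e.2 (cn e e.2), show s * (s * e * s⁻¹) * s⁻¹ = s * s * e * (s * s)⁻¹ by group,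
      hc ss e.2, mul_inv_cancel_right]
  have cen : ∀ e : E, e ∈ f.ker → ∀ a ∈ S, a * e = e * a := fun e he a ha => by
    rcases dec a ha with h | ⟨d, hd, rfl⟩
    · exact hc h e.2
    · rw [mul_assoc, mul_inv_eq_iff_eq_mul.1 ((ker e).1 he), ← mul_assoc, hc hd e.2, mul_assoc]
  have com : ∀ a ∈ S, ∀ b ∈ S, ∃ e : E, a * b * a⁻¹ * b⁻¹ = f e := fun a ha b hb => by
    have k : ∀ e : E, (f e : G) = e * s * (e : G)⁻¹ * s⁻¹ := fun e => by
      rw [inv e e.2]; exact (show (e : G) * (s * e * s⁻¹) = _ by group)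
    rcases dec a ha with h | ⟨d, hd, rfl⟩ <;> rcases dec b hb with h' | ⟨d', hd', rfl⟩
    · exact ⟨1, by rw [hc h h']; simp⟩
    · refine ⟨⟨a, h⟩, ?_⟩
      change _ = a * (s * a * s⁻¹)
      rw [inv a h, show a * (d' * s) * a * (d' * s)⁻¹ = a * (d' * (s * a * s⁻¹)) * d'⁻¹ by group,
        hc hd' (cn a h)]
      group
    · refine ⟨⟨b, h'⟩, ?_⟩
      change _ = b * (s * b * s⁻¹)
      rw [inv b h', show d * s * b * (d * s)⁻¹ * b = d * (s * b * s⁻¹) * d⁻¹ * b by group,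
        hc hd (cn b h'), mul_inv_cancel_right, hc (cn b h') h']
    · refine ⟨⟨d * d', mul_mem hd hd'⟩, ?_⟩
      change _ = d * d' * (s * (d * d') * s⁻¹)
      rw [show d * s * (d' * s) * (d * s)⁻¹ * (d' * s)⁻¹ =
        d * ((s * d' * s⁻¹) * (s * d⁻¹ * s⁻¹)) * d'⁻¹ by group, inv d hd, inv d' hd', conj_mul,
        mul_assoc d, hc (cn _ (mul_mem hd' hd)) hd', hc hd' hd, mul_assoc d]
  have h5 := f.ker.card_mul_index
  rw [index_ker, hE] at h5
  have h6 := card_dvd_of_le le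
  obtain ⟨a, b, hab⟩ : ∃ a b : S, a * b ≠ b * a := by
    by_contra h
    push Not at h
    exact hn ⟨⟨h⟩⟩
  obtain ⟨e, he⟩ := com a a.2 b b.2
  have e1 : (f e : G) ≠ 1 := fun h => hab (Subtype.ext (by
    rw [h, mul_inv_eq_one, mul_inv_eq_iff_eq_mul] at he
    exact he))
  obtain ⟨z, zk, zr⟩ : ∃ z ∈ f.ker, z ∉ f.range := by
    by_contra h
    push Not at h
    rw [le_antisymm le h] at h5
    have : Nat.card f.ker < 3 := by nlinarith
    generalize Nat.card f.ker = n at *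
    interval_cases n <;> omega
  have o : ∀ e : E, (e : G) ≠ 1 → orderOf (e : G) = 2 := fun e h =>
    orderOf_eq_prime ((sq _).trans (h2 e e.2)) h
  obtain ⟨g, hg⟩ := isConj_iff.1 (cj _ _ (o z fun h => zr ((Subtype.ext h : z = 1) ▸ one_mem _)) (o _ e1)).symm
  obtain ⟨n, hn, h7⟩ := S.conj_eq_normalizer_conj_of_mem_centralizer (f e) g⁻¹
    (fun c hc => cen _ (le ⟨e, rfl⟩) c hc) (by rw [inv_inv, hg]; exact fun c hc => cen z zk c hc)
  rw [inv_inv, hg, ← he] at h7
  have nS : ∀ c : S, n⁻¹ * c * n ∈ S := fun c => by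
    have := (mem_normalizer_iff.1 (inv_mem hn) c).1 c.2
    rwa [inv_inv] at this
  obtain ⟨d, hd⟩ := com _ (nS a) _ (nS b)
  exact zr ⟨d, Subtype.ext (by rw [← hd, h7]; group)⟩

theorem no_E8 (hN : Nat.card G = 6920642400)
    (hC : ∀ g : G, g ≠ 1 → g ^ 7 ^ 4 = 1 → Nat.card (centralizer ({g} : Set G)) = 7 ^ 4)
    (h3 : ∀ a b c : G, a ≠ 1 → a ^ 7 ^ 4 = 1 → b ≠ 1 → b ^ 7 ^ 4 = 1 → c ≠ 1 → c ^ 7 ^ 4 = 1 →
      IsConj a b ∨ IsConj a c ∨ IsConj b c) {E : Subgroup G} (hE : Nat.card E = 8)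
    (h2 : ∀ e ∈ E, e * e = 1) : False := by
  haveI : Fact (Nat.Prime 7) := ⟨by norm_num⟩
  obtain ⟨R, hR⟩ := Sylow.exists_subgroup_card_pow_prime (G := G) 7 (n := 4) (by rw [hN]; norm_num)
  have pw : ∀ g ∈ R, g ^ 7 ^ 4 = 1 := fun g hg => by
    rw [← hR]; exact orderOf_dvd_iff_pow_eq_one.1 (R.orderOf_dvd_natCard hg)
  have F : ∀ {A : Subgroup G}, A ≤ R → R ≤ normalizer (A : Set G) →
      R.relIndex (normalizer (A : Set G)) ∣ Nat.card A - 1 := fun {A} h1 h4 => by
    refine (Nat.dvd_iff_prime_pow_dvd_dvd _ _).2 fun q k hq hk => ?_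
    haveI := Fact.mk hq
    rcases k with _ | k
    · simp
    have h5 := Grp.card_mul_relIndex h4
    have q7 : q ≠ 7 := by
      rintro rfl
      have := (Nat.mul_dvd_mul_left _ ((dvd_pow_self 7 (by omega)).trans hk)).trans
        (h5 ▸ card_subgroup_dvd_card _)
      rw [hR, hN] at this
      norm_num at this
    obtain ⟨Q, hQ⟩ := Sylow.exists_subgroup_card_pow_prime (G := normalizer (A : Set G)) q
      (hk.trans (Dvd.intro_left _ h5))
    rw [← card_map_of_injective (subtype_injective _)] at hQ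
    rw [← hQ]
    refine Solv.Frob.card_dvd_card_sub_one (map_subtype_le _) fun a ha a1 => eq_bot_iff.2 fun g hg => ?_
    by_contra g1
    have h6 : a ∈ centralizer ({g} : Set G) :=
      mem_centralizer_singleton_iff.2 (mem_centralizer_singleton_iff.1 hg.2).symm
    have h7 := orderOf_dvd_natCard _ h6
    rw [hC g g1 (pw g (h1 hg.1))] at h7
    exact a1 (orderOf_eq_one_iff.1 (Nat.eq_one_of_dvd_coprimes
      (Nat.coprime_pow_primes _ _ hq Fact.out q7) (hQ ▸ orderOf_dvd_natCard _ ha) h7))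
  obtain ⟨A', hA, hc⟩ := exists_comm_cube hR
  rw [← card_map_of_injective R.subtype_injective] at hA
  have hc : ∀ a ∈ A'.map R.subtype, ∀ b ∈ A'.map R.subtype, a * b = b * a := by
    rintro _ ⟨a, ha, rfl⟩ _ ⟨b, hb, rfl⟩
    exact congrArg (fun z : A' => (z : G)) (hc.is_comm.comm ⟨a, ha⟩ ⟨b, hb⟩)
  have AR : A'.map R.subtype ≤ R := map_subtype_le _
  generalize A'.map R.subtype = A at hA hc AR
  have i7 : ∀ {T : Subgroup G}, A ≤ T → Nat.card T = 7 ^ 4 → A.relIndex T = 7 := fun h hT => by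
    have := Grp.card_mul_relIndex h
    rw [hA, hT] at this
    omega
  have nm : ∀ {T : Subgroup G}, A ≤ T → Nat.card T = 7 ^ 4 → T ≤ normalizer (A : Set G) :=
    fun h hT => (normal_subgroupOf_iff_le_normalizer h).1 (normal_of_index_eq_minFac_card (by
      rw [hT, ← relIndex, i7 h hT]; norm_num))
  have k1 := F AR (nm AR hR)
  have k2 : R.relIndex (normalizer (A : Set G)) ∣ 2882400 := by
    have := (relIndex_mul_index (nm AR hR)).symm ▸ R.card_mul_index
    rw [hR, hN] at this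
    exact ⟨(normalizer (A : Set G)).index, by omega⟩
  rw [hA] at k1
  have k3 := Nat.le_of_dvd (by norm_num) (Nat.dvd_gcd k1 k2)
  have k4 : ∀ a ∈ A, a ≠ 1 → centralizer ({a} : Set G) = R := fun a ha a1 => by
    have h4 := hC a a1 (pw a (AR ha))
    have h5 := relIndex_le_of_le_right (H := R) (nm (fun b hb =>
      mem_centralizer_singleton_iff.2 (hc b hb a ha)) h4) index_ne_zero_of_finite
    obtain ⟨i, -, hi⟩ := (Nat.dvd_prime_pow (by norm_num)).1
      (h4 ▸ (R.subgroupOf (centralizer ({a} : Set G))).index_dvd_card)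
    rw [← relIndex] at hi
    have h6 : i < 1 := (Nat.pow_lt_pow_iff_right (by norm_num : 1 < 7)).1
      (hi ▸ (h5.trans k3).trans_lt (by norm_num))
    obtain rfl : i = 0 := by omega
    exact eq_of_le_of_card_ge (relIndex_eq_one.1 hi) (by rw [h4, hR])
  have k5 : ∀ r ∈ R, r ≠ 1 → centralizer ({r} : Set G) = R := fun r hr r1 => by
    by_cases h : r ∈ A
    · exact k4 r h r1
    refine (eq_of_le_of_card_ge ?_ (by rw [hC r r1 (pw r hr), hR])).symm
    refine subgroupOf_eq_top.1 (Grp.eq_top_of_index_prime (p := 7) (by norm_num) (i7 AR hR)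
      (fun a ha => ?_) (x := ⟨r, hr⟩) h (mem_centralizer_singleton_iff.2 rfl))
    by_cases a1 : (a : G) = 1
    · rw [mem_subgroupOf, a1]; exact one_mem _
    · exact mem_centralizer_singleton_iff.2
        (mem_centralizer_singleton_iff.1 ((k4 a ha a1).symm ▸ hr)).symm
  set H := normalizer (R : Set G) with hH
  have k6 := F le_rfl le_normalizer
  have k7 : R.relIndex H * H.index = 2882400 := by
    have := R.card_mul_index
    rw [hR, hN, ← relIndex_mul_index (show R ≤ H from le_normalizer)] at this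
    omega
  have orb : ∀ a ∈ R, a ≠ 1 → {b | b ∈ R ∧ IsConj a b}.ncard ≤ R.relIndex H := fun a ha a1 => by
    have h4 : centralizer ({⟨a, le_normalizer ha⟩} : Set H) = R.subgroupOf H := by
      ext g
      rw [mem_subgroupOf, mem_centralizer_singleton_iff, Subtype.ext_iff]
      exact mem_centralizer_singleton_iff.symm.trans (by rw [k5 a ha a1])
    rw [relIndex, ← h4, ← Math.ncard_isConj, ← Set.ncard_image_of_injective _ H.subtype_injective]
    refine Set.ncard_le_ncard fun b hb => ?_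
    obtain ⟨g, rfl⟩ := isConj_iff.1 hb.2
    have h5 := k5 _ hb.1 (by simpa using a1)
    have h6 : g ∈ H := mem_normalizer_iff.2 fun r => by
      conv_lhs => rw [← k5 a ha a1]
      rw [← h5, mem_centralizer_singleton_iff, mem_centralizer_singleton_iff, conj_mul, conj_mul]
      simp
    exact ⟨⟨_, le_normalizer hb.1⟩, isConj_iff.2 ⟨⟨g, h6⟩, rfl⟩, rfl⟩
  have k8 : 2400 ≤ 2 * R.relIndex H := by
    have h4 : ((R : Set G) \ {1}).ncard = 2400 := by
      rw [Set.ncard_sdiff_singleton_of_mem R.one_mem]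
      exact congrArg (· - 1) hR
    obtain ⟨a, ha, a1⟩ := Set.nonempty_of_ncard_ne_zero (h4.trans_ne (by norm_num))
    by_cases h : ∀ b ∈ R, b ≠ 1 → IsConj a b
    · have := (Set.ncard_le_ncard (s := (R : Set G) \ {1}) (t := {b | b ∈ R ∧ IsConj a b})
        fun b hb => ⟨hb.1, h b hb.1 hb.2⟩).trans (orb a ha a1)
      omega
    push Not at h
    obtain ⟨b, hb, b1, hab⟩ := h
    have := (Set.ncard_le_ncard (s := (R : Set G) \ {1}) fun c hc =>
      ((h3 a b c a1 (pw a ha) b1 (pw b hb) hc.2 (pw c hc.1)).resolve_left hab).imp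
        (And.intro hc.1) (And.intro hc.1)).trans ((Set.ncard_union_le {c | c ∈ R ∧ IsConj a c}
          {c | c ∈ R ∧ IsConj b c}).trans (add_le_add (orb a ha a1) (orb b hb b1)))
    omega
  have k9 : ¬ 4 ∣ H.index := by
    rw [hR, ← hH] at k6
    obtain ⟨i, hi⟩ := k6
    norm_num at hi
    have : i ≤ 2 := by nlinarith
    interval_cases i
    · omega
    · rw [show R.relIndex H = 2400 by omega] at k7; omega
    · rw [show R.relIndex H = 1200 by omega] at k7; omega
  obtain ⟨x, hx⟩ : ∃ x : G ⧸ H, ¬ 4 ∣ (MulAction.stabilizer E x).index := by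
    by_contra h
    push Not at h
    classical
    have := Fintype.ofFinite (MulAction.orbitRel.Quotient E (G ⧸ H))
    rw [index_eq_card, Nat.card_congr (MulAction.selfEquivSigmaOrbits E (G ⧸ H)),
      Nat.card_sigma] at k9
    refine k9 (Finset.dvd_sum fun q _ => ?_)
    rw [Nat.card_congr (MulAction.orbitEquivQuotientStabilizer E q.out), ← index_eq_card]
    exact h _
  obtain ⟨g, rfl⟩ := QuotientGroup.mk_surjective x
  have k10 : 2 < Nat.card (MulAction.stabilizer E (g : G ⧸ H)) := by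
    have h4 := (MulAction.stabilizer E (g : G ⧸ H)).card_mul_index
    rw [hE] at h4
    by_contra h
    generalize Nat.card (MulAction.stabilizer E (g : G ⧸ H)) = n at *
    interval_cases n <;> omega
  obtain ⟨r, hr, r1⟩ := (R.bot_or_exists_ne_one).resolve_left fun h => by simp [h] at hR
  have odd : ∀ s ∈ R, s * s = 1 → s = 1 := fun s hs h => orderOf_eq_one_iff.1
    (Nat.eq_one_of_dvd_coprimes (a := 2) (b := 7 ^ 4) (by norm_num)
      (orderOf_dvd_of_pow_eq_one ((sq s).trans h)) (orderOf_dvd_of_pow_eq_one (pw s hs)))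
  have sq' : ∀ e ∈ E, g⁻¹ * e * g * (g⁻¹ * e * g) = 1 := fun e he => by
    rw [show g⁻¹ * e * g * (g⁻¹ * e * g) = g⁻¹ * (e * e) * g by group, h2 e he]; simp
  have key : ∀ e : MulAction.stabilizer E (g : G ⧸ H), e ≠ 1 →
      g⁻¹ * e * g * r * (g⁻¹ * e * g)⁻¹ = r⁻¹ := fun e e1 => by
    have h4 : g⁻¹ * e * g ∈ H := by
      have := QuotientGroup.eq.1 (show ((e * g : G) : G ⧸ H) = g from e.2).symm
      rwa [← mul_assoc] at this
    refine Char.conj_eq_inv_of_fixedPointFree (sq' _ e.1.2) h4 (fun y hy h => ?_) hr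
    by_contra y1
    have := odd _ (k5 y hy y1 ▸ mem_centralizer_singleton_iff.2 h) (sq' _ e.1.2)
    rw [mul_assoc, inv_mul_eq_one, eq_comm, mul_eq_right] at this
    exact e1 (Subtype.ext (Subtype.ext this))
  haveI := Fintype.ofFinite (MulAction.stabilizer E (g : G ⧸ H))
  rw [Nat.card_eq_fintype_card] at k10
  obtain ⟨a, b, hab, a1, b1⟩ : ∃ a b : MulAction.stabilizer E (g : G ⧸ H),
      a ≠ b ∧ a ≠ 1 ∧ b ≠ 1 := by
    obtain ⟨a, b, c, h4, h5, h6⟩ := Fintype.two_lt_card_iff.1 k10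
    by_cases ha : a = 1
    · exact ⟨b, c, h6, ha ▸ h4.symm, ha ▸ h5.symm⟩
    by_cases hb : b = 1
    · exact ⟨a, c, h5, ha, hb ▸ h6.symm⟩
    exact ⟨a, b, h4, ha, hb⟩
  have h4 := key (a * b) fun h => hab (Subtype.ext (Subtype.ext (by
    have : (a : G) * b = 1 := congrArg (fun z : MulAction.stabilizer E (g : G ⧸ H) => (z : G)) h
    rw [← h2 _ a.1.2] at this
    exact (mul_left_cancel this).symm)))
  have h5 : g⁻¹ * ((a * b : MulAction.stabilizer E (g : G ⧸ H)) : G) * g =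
      g⁻¹ * a * g * (g⁻¹ * b * g) := by
    change g⁻¹ * ((a : G) * b) * g = _
    group
  rw [h5, mul_inv_rev, mul_assoc _ _ r, mul_assoc, ← mul_assoc _ _ (g⁻¹ * a * g)⁻¹, key b b1,
    ← mul_assoc, ← conj_inv, key a a1, inv_inv, eq_inv_iff_mul_eq_one] at h4
  exact r1 (odd r hr h4)

end Cfsg.Agent.Alex
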