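import Cfsg.Agent.Alex.Pell

/-! The numerical sieve. -/

set_option autoImplicit false

namespace Cfsg.Agent.Alex

/-- the contributions of an `r`-central element -/
def Adm (x y : ℕ) (δ : ℤ) (m W r : ℕ) (T U : ℤ) : Prop :=
  0 ≤ T ∧ 0 ≤ U ∧ (r ∣ m → ∃ (i : ℕ) (b : ℤ), 0 < i ∧ ¬ r ∣ i ∧ (W : ℤ) ∣ i * (x - b) ∧ b < x ∧
    -x ≤ b ∧ (r : ℤ) ∣ x - b ∧ 0 ≤ x + (r - 1) * b ∧ 0 ≤ y + (r - 1) * (b + δ) ∧
    T = i * (b * (b + δ)) ∧ U = i * ((b + δ) * (b + 2 * δ)))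

def pows (r B : ℕ) : List ℕ := ((List.range 14).map (r ^ ·)).filter (· ≤ B)

theorem mem_pows {r B i : ℕ} (hr : 2 ≤ r) (hB : B < 2 ^ 14) (h : r ^ i ≤ B) : r ^ i ∈ pows r B := by
  simp only [pows, List.mem_filter, List.mem_map, List.mem_range, decide_eq_true_eq]
  refine ⟨⟨i, ?_, rfl⟩, h⟩
  exact (Nat.pow_lt_pow_iff_right one_lt_two).1 ((Nat.pow_le_pow_left hr i).trans_lt (h.trans_lt hB))

def pr (x : ℕ) (δ : ℤ) (W v : ℕ) : ℤ × ℤ :=
  ((W / Nat.gcd W v : ℕ) * ((x - v) * (x - v + δ)),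
    (W / Nat.gcd W v : ℕ) * ((x - v + δ) * (x - v + 2 * δ)))

def adm (x y : ℕ) (δ : ℤ) (p m W R r : ℕ) : List (ℤ × ℤ) :=
  if m % r = 0 then
    ((((List.range (2 * x / R)).map fun k => R * (k + 1)).filter fun v : ℕ => v % r == 0 &&
      decide (0 ≤ (x : ℤ) + (r - 1) * (x - v)) && decide (0 ≤ (y : ℤ) + (r - 1) * (x - v + δ))).map
        (pr x δ W)).filter fun s => decide (p * s.1 ≤ m)
  else [(0, 0)]

theorem consec {δ : ℤ} (hδ : δ = 1 ∨ δ = -1) (b : ℤ) : 0 ≤ b * (b + δ) := by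
  rcases hδ with rfl | rfl <;> rcases le_or_gt b 0 with h | h <;> rcases le_or_gt b (-1) with h' | h' <;>
    nlinarith

theorem consec' {δ : ℤ} (hδ : δ = 1 ∨ δ = -1) (b : ℤ) : 0 ≤ (b + δ) * (b + 2 * δ) := by
  have := consec hδ (b + δ)
  rwa [add_assoc, ← two_mul] at this

theorem adm_ok {x y p m W r k : ℕ} {δ T U : ℤ} (hδ : δ = 1 ∨ δ = -1) (hr : r.Prime) (W0 : W ≠ 0)
    (h : Adm x y δ m W r T U) (hR : r ^ k ∣ W) (hT : p * T ≤ m) :
    (r ∣ m → r ^ k ≤ 2 * x) ∧ ∃ s ∈ adm x y δ p m W (r ^ k) r, s.1 ≤ T ∧ s.2 ≤ U := by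
  obtain ⟨T0, U0, h⟩ := h
  by_cases hm : r ∣ m
  swap
  · refine ⟨fun h => absurd h hm, (0, 0), ?_, T0, U0⟩
    simp [adm, mt Nat.dvd_of_mod_eq_zero hm]
  obtain ⟨i, b, i0, ri, hW, b1, b2, b3, b4, b5, rfl, rfl⟩ := h hm
  obtain ⟨v, hv⟩ := Int.eq_ofNat_of_zero_le (show 0 ≤ x - b by omega)
  obtain rfl : b = x - v := by omega
  rw [hv] at hW b3
  have hW' : W ∣ i * v := by exact_mod_cast hW
  have hv' : r ^ k ∣ v :=
    (Nat.Coprime.pow_left k ((Nat.Prime.coprime_iff_not_dvd hr).2 ri)).dvd_of_dvd_mul_left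
      (hR.trans hW')
  have v0 : 0 < v := by omega
  have g0 : 0 < Nat.gcd W v := Nat.gcd_pos_of_pos_right _ v0
  have hi : W / Nat.gcd W v ≤ i := by
    refine Nat.le_of_dvd i0 ((Nat.coprime_div_gcd_div_gcd g0).dvd_of_dvd_mul_right ?_)
    refine Nat.dvd_of_mul_dvd_mul_right g0 ?_
    rwa [Nat.div_mul_cancel (Nat.gcd_dvd_left _ _), mul_assoc,
      Nat.div_mul_cancel (Nat.gcd_dvd_right _ _)]
  have hi' : ((W / Nat.gcd W v : ℕ) : ℤ) ≤ i := by exact_mod_cast hi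
  have l1 := mul_le_mul_of_nonneg_right hi' (consec hδ ((x : ℤ) - v))
  have l2 := mul_le_mul_of_nonneg_right hi' (consec' hδ ((x : ℤ) - v))
  refine ⟨fun _ => (Nat.le_of_dvd v0 hv').trans (by omega), pr x δ W v, ?_, l1, l2⟩
  simp only [adm, if_pos (Nat.mod_eq_zero_of_dvd hm), List.mem_filter, List.mem_map, List.mem_range,
    decide_eq_true_eq, Bool.and_eq_true, beq_iff_eq]
  refine ⟨⟨v, ⟨?_, ⟨Nat.mod_eq_zero_of_dvd (by exact_mod_cast b3), b4⟩, b5⟩, rfl⟩,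
    (mul_le_mul_of_nonneg_left l1 (by positivity)).trans hT⟩
  obtain ⟨w, rfl⟩ := hv'
  obtain ⟨w, rfl⟩ : ∃ w', w = w' + 1 := ⟨w - 1, by
    rcases w with _ | w
    · simp at v0
    · simp⟩
  refine ⟨w, ?_, rfl⟩
  rw [Nat.lt_iff_add_one_le, Nat.le_div_iff_mul_le (pow_pos hr.pos k), mul_comm]
  omega

def Lrk : List ℕ := [60, 3360, 4620, 9828, 21420, 3104640, 6142500, 9355500, 15240960, 15724800,
  66528000, 876355200, 1034208000, 3454617600, 1984372992000]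

def L16 : List ℕ := [360, 504, 1680, 4080, 7800, 11760, 265680, 952560]

def Lci : List ℕ := [20160, 52416, 124992]

def Lsp : List (ℕ × ℕ × ℕ × ℕ × ℕ × ℤ) := [(64, 63, 13, 2520000, 1575, 0),
  (64, 63, 13, 44452800, 6615, 0), (225, 224, 113, 50400, 225, 1),
  (2401, 2400, 1201, 5762400, 2401, 1)]

/-- the surviving configurations -/
def Out (x y : ℕ) (δ : ℤ) (p m j : ℕ) (a : ℤ) : Prop :=
  (p * m ∈ Lrk ∧ ¬ ((x - a) % 8 = 0 ∧ 0 ≤ x + 7 * a ∧ 0 ≤ y + 7 * (a + δ))) ∨ p * m ∈ L16 ∨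
    (p * m ∈ Lci ∧ m = 64 * j) ∨ (x, y, p, m, j, a) ∈ Lsp

instance (x y : ℕ) (δ : ℤ) (p m j : ℕ) (a : ℤ) : Decidable (Out x y δ p m j a) := by
  unfold Out; infer_instance

def chk3 (x y : ℕ) (δ : ℤ) (p m W R3 R5 R7 j : ℕ) (a B1 B2 : ℤ) : Bool :=
  decide (m < B1) || decide (3 * m < B2) || decide (Out x y δ p m j a) ||
    (adm x y δ p m W R3 3).all fun s => (adm x y δ p m W R5 5).all fun t =>
      (adm x y δ p m W R7 7).all fun w =>
        decide (m < B1 + p * (s.1 + t.1 + w.1)) || decide (3 * m < B2 + p * (s.2 + t.2 + w.2))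

def chk2 (x y : ℕ) (δ : ℤ) (p m W R3 R5 R7 : ℕ) : Bool :=
  m % (2 * p) != 2 || m % x != 0 || m % y != 0 || (List.range (x / 2)).all fun k => W % (4 * (k + 1)) != 0 ||
    W / (4 * (k + 1)) % 2 == 0 || m % (W / (4 * (k + 1))) != 0 ||
    chk3 x y δ p m W R3 R5 R7 (W / (4 * (k + 1))) (x - (4 * (k + 1) : ℕ))
      (x * y + p * ((W / (4 * (k + 1)) : ℕ) * ((x - (4 * (k + 1) : ℕ)) * (x - (4 * (k + 1) : ℕ) + δ))))
      (y * (y + δ) + p * ((W / (4 * (k + 1)) : ℕ) *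
        ((x - (4 * (k + 1) : ℕ) + δ) * (x - (4 * (k + 1) : ℕ) + 2 * δ))))

def chk (x y : ℕ) (δ : ℤ) (p : ℕ) : Bool :=
  (pows 2 (2 * x)).all fun R2 => (pows 3 (2 * x)).all fun R3 => (pows 5 (2 * x)).all fun R5 =>
    (pows 7 (2 * x)).all fun R7 => (R2 * R3 * R5 * R7) * (R2 * R3 * R5 * R7) % (x * y) != 0 ||
      chk2 x y δ p ((R2 * R3 * R5 * R7) * (R2 * R3 * R5 * R7) / (x * y)) (R2 * R3 * R5 * R7) R3 R5 R7

def TL : List (ℕ × ℕ × ℕ) := [(4, 3, 5), (6, 5, 7), (6, 7, 5), (8, 9, 7), (9, 8, 5), (10, 9, 11),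
  (14, 15, 13), (15, 16, 7), (16, 15, 17), (20, 21, 19), (21, 20, 11), (24, 25, 23), (25, 24, 13),
  (27, 28, 13), (28, 27, 29), (35, 36, 17), (36, 35, 37), (48, 49, 47), (49, 48, 5), (50, 49, 17),
  (63, 64, 31), (64, 63, 5), (64, 63, 13), (80, 81, 79), (81, 80, 41), (125, 126, 31),
  (126, 125, 127), (224, 225, 223), (225, 224, 113), (2400, 2401, 2399), (2401, 2400, 1201),
  (4374, 4375, 4373), (4375, 4374, 547)]

theorem chk_all : TL.all (fun t => chk t.1 t.2.1 (t.2.1 - t.1) t.2.2 && t.1 < 5000) = true := by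
  decide +kernel

def tc (x y z : ℕ) : Bool := x < 2 || y < 2 || (List.range (z + 1)).all fun p => p < 5 ||
  z % p != 0 || TL.contains (x, y, p) || (List.range p).any fun d => 2 ≤ d && p % d == 0

theorem tc_all : SL.all (fun n => tc n (n + 1) (n - 1) && tc (n + 1) n (n + 2)) = true := by
  decide +kernel

theorem tc_ok {x y z p : ℕ} (h : tc x y z = true) (x2 : 2 ≤ x) (y2 : 2 ≤ y) (hp : p.Prime)
    (p5 : 5 ≤ p) (z0 : 0 < z) (hz : p ∣ z) : (x, y, p) ∈ TL := by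
  simp only [tc, Bool.or_eq_true, decide_eq_true_eq, List.all_eq_true, List.mem_range, bne_iff_ne,
    List.contains_eq_mem, List.any_eq_true, Bool.and_eq_true, beq_iff_eq] at h
  rcases h.resolve_left (by omega) p (Nat.lt_succ_of_le (Nat.le_of_dvd z0 hz)) with
    ((h | h) | h) | ⟨d, h1, h2, h3⟩
  · omega
  · exact absurd (Nat.mod_eq_zero_of_dvd hz) h
  · exact h
  · have := hp.eq_one_or_self_of_dvd d (Nat.dvd_of_mod_eq_zero h3)
    omega

theorem mem_TL {x y p : ℕ} {δ : ℤ} (hδ : δ = 1 ∨ δ = -1) (hy : (y : ℤ) = x + δ) (x2 : 2 ≤ x)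
    (y2 : 2 ≤ y) (hp : p.Prime) (p5 : 5 ≤ p) (hpx : (p : ℤ) ∣ x - δ) (sx : Sm x) (sy : Sm y) :
    (x, y, p) ∈ TL := by
  have h := List.all_eq_true.1 tc_all
  rcases hδ with rfl | rfl
  · obtain rfl : y = x + 1 := by omega
    have := (Bool.and_eq_true _ _ ▸ h x (stormer sx sy)).1
    refine tc_ok this x2 y2 hp p5 (by omega) ?_
    rw [← Int.natCast_dvd_natCast, Nat.cast_sub (by omega)]
    exact hpx
  · obtain rfl : x = y + 1 := by omega
    have := (Bool.and_eq_true _ _ ▸ h y (stormer sy sx)).2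
    refine tc_ok this x2 y2 hp p5 (by omega) ?_
    rw [← Int.natCast_dvd_natCast]
    convert hpx using 1
    push_cast
    ring

theorem sieve {x y p m W j : ℕ} {δ a : ℤ} (hδ : δ = 1 ∨ δ = -1) (hy : (y : ℤ) = x + δ)
    (x2 : 2 ≤ x) (y2 : 2 ≤ y) (hp : p.Prime) (p5 : 5 ≤ p) (hpx : (p : ℤ) ∣ x - δ) (hm : Sm m)
    (xm : x ∣ m) (ym : y ∣ m) (hmod : m % (2 * p) = 2) (hW : W * W = m * (x * y))
    (ha : (W : ℤ) = j * (x - a)) (ax : a < x) (xa : -x ≤ a) (h4 : 4 ∣ x - a) (jo : j % 2 = 1)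
    (jm : j ∣ m) {T3 U3 T5 U5 T7 U7 : ℤ} (a3 : Adm x y δ m W 3 T3 U3) (a5 : Adm x y δ m W 5 T5 U5)
    (a7 : Adm x y δ m W 7 T7 U7)
    (h1 : x * y + p * (j * (a * (a + δ))) + p * (T3 + T5 + T7) ≤ m)
    (h2 : y * (y + δ) + p * (j * ((a + δ) * (a + 2 * δ))) + p * (U3 + U5 + U7) ≤ 3 * m) :
    Out x y δ p m j a := by
  have sx := hm.of_dvd xm
  have sy := hm.of_dvd ym
  have h := List.all_eq_true.1 chk_all _ (mem_TL hδ hy x2 y2 hp p5 hpx sx sy)
  simp only [Bool.and_eq_true, decide_eq_true_eq] at h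
  obtain ⟨h, x5⟩ := h
  rw [show (y : ℤ) - x = δ by omega] at h
  obtain ⟨i2, i3, i5, i7, e⟩ := (show Sm (W * W) from hW ▸ hm.mul (sx.mul sy)).of_sq.exists
  have W0 : W ≠ 0 := by rw [e]; positivity
  have p0 : (0 : ℤ) ≤ p := by positivity
  have n1 : 0 ≤ (x : ℤ) * y + p * (j * (a * (a + δ))) := by
    have := consec hδ a
    positivity
  have t3 := mul_nonneg p0 a3.1
  have t5 := mul_nonneg p0 a5.1
  have t7 := mul_nonneg p0 a7.1
  have u3 := mul_nonneg p0 a3.2.1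
  have u5 := mul_nonneg p0 a5.2.1
  have u7 := mul_nonneg p0 a7.2.1
  obtain ⟨b3, s, hs, s1, s2⟩ := adm_ok (p := p) hδ Nat.prime_three W0 a3 (k := i3)
    (e ▸ (((dvd_refl _).mul_left _).mul_right _).mul_right _) (by linarith)
  obtain ⟨b5, t, ht, t1, t2⟩ := adm_ok (p := p) hδ Nat.prime_five W0 a5 (k := i5)
    (e ▸ ((dvd_refl _).mul_left _).mul_right _) (by linarith)
  obtain ⟨b7, w, hw, w1, w2⟩ := adm_ok (p := p) hδ (by norm_num) W0 a7 (k := i7)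
    (e ▸ (dvd_refl _).mul_left _) (by linarith)
  have key : ∀ {r i : ℕ}, r.Prime → r ^ i ∣ W → (r ∣ m → r ^ i ≤ 2 * x) → r ^ i ∈ pows r (2 * x) := by
    intro r i hr h1 h2
    refine mem_pows hr.two_le (by omega) ?_
    by_cases h3 : r ∣ m
    · exact h2 h3
    rcases i with _ | i
    · rw [pow_zero]; omega
    have h4 : r ∣ m * (x * y) := hW ▸ ((dvd_pow_self r (by omega)).trans h1).mul_right _
    rcases (Nat.Prime.dvd_mul hr).1 h4 with h5 | h5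
    · exact absurd h5 h3
    rcases (Nat.Prime.dvd_mul hr).1 h5 with h5 | h5
    · exact absurd (h5.trans xm) h3
    · exact absurd (h5.trans ym) h3
  obtain ⟨k, hk⟩ := h4
  obtain ⟨k, rfl⟩ := Int.eq_ofNat_of_zero_le (show 0 ≤ k by omega)
  obtain ⟨k, rfl⟩ : ∃ k', k = k' + 1 := ⟨k - 1, by omega⟩
  have hu : W = j * (4 * (k + 1)) := by rw [hk] at ha; exact_mod_cast ha
  have hj : W / (4 * (k + 1)) = j := by rw [hu, Nat.mul_div_cancel _ (by omega)]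
  have ea : (x : ℤ) - (4 * (k + 1) : ℕ) = a := by push_cast at hk ⊢; omega
  have m2 := key (r := 2) (i := i2) Nat.prime_two
    (e ▸ (((dvd_refl _).mul_right _).mul_right _).mul_right _) fun _ => by
      have h5 : 2 ^ i2 ∣ j * (4 * (k + 1)) :=
        hu ▸ e ▸ (((dvd_refl _).mul_right _).mul_right _).mul_right _
      have := Nat.le_of_dvd (by omega) ((Nat.Coprime.pow_left i2
        ((Nat.Prime.coprime_iff_not_dvd Nat.prime_two).2 (by omega))).dvd_of_dvd_mul_left h5)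
      omega
  have h3 := List.all_eq_true.1 (List.all_eq_true.1 (List.all_eq_true.1 (List.all_eq_true.1 h _ m2)
    _ (key Nat.prime_three (e ▸ (((dvd_refl _).mul_left _).mul_right _).mul_right _) b3))
    _ (key Nat.prime_five (e ▸ ((dvd_refl _).mul_left _).mul_right _) b5))
    _ (key (by norm_num) (e ▸ (dvd_refl _).mul_left _) b7)
  rw [← e, hW, Nat.mul_div_cancel _ (by positivity), Nat.mul_mod_left] at h3
  simp only [bne_self_eq_false, Bool.false_or, chk2, hmod, List.all_eq_true, List.mem_range,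
    Nat.mod_eq_zero_of_dvd xm, Nat.mod_eq_zero_of_dvd ym] at h3
  have h5 := h3 k (by omega)
  rw [hj, ea, Nat.mod_eq_zero_of_dvd jm, jo, Nat.mod_eq_zero_of_dvd (hu ▸ dvd_mul_left _ _)] at h5
  simp only [bne_self_eq_false, Bool.false_or, chk3, Bool.or_eq_true, decide_eq_true_eq,
    List.all_eq_true] at h5
  rcases h5.resolve_left (by simp) with ((h5 | h5) | h5) | h5
  · linarith
  · linarith
  · exact h5
  · have l1 := mul_le_mul_of_nonneg_left (add_le_add (add_le_add s1 t1) w1) p0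
    have l2 := mul_le_mul_of_nonneg_left (add_le_add (add_le_add s2 t2) w2) p0
    rcases h5 s hs t ht w hw with h5 | h5 <;> linarith

end Cfsg.Agent.Alex
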