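import Mathlib

/-! Størmer's theorem for the primes `2, 3, 5, 7`. -/

set_option autoImplicit false

namespace Cfsg.Agent.Alex

open Pell

/-- the prime divisors are among `2, 3, 5, 7` -/
def Sm (n : ℕ) : Prop := ∃ k, n ∣ 210 ^ k

theorem Sm.of_dvd {m n : ℕ} (h : Sm n) (hd : m ∣ n) : Sm m := h.imp fun _ h => hd.trans h

theorem Sm.mul {m n : ℕ} (h : Sm m) (h' : Sm n) : Sm (m * n) := by
  obtain ⟨k, hk⟩ := h
  obtain ⟨l, hl⟩ := h'
  exact ⟨k + l, pow_add 210 k l ▸ mul_dvd_mul hk hl⟩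

theorem sm_pow {r : ℕ} (h : r ∣ 210) (k : ℕ) : Sm (r ^ k) := ⟨k, pow_dvd_pow_of_dvd h k⟩

theorem sm_prod (a b c e : ℕ) : Sm (2 ^ a * 3 ^ b * 5 ^ c * 7 ^ e) :=
  (((sm_pow (by norm_num) a).mul (sm_pow (by norm_num) b)).mul (sm_pow (by norm_num) c)).mul
    (sm_pow (by norm_num) e)

theorem Sm.exists {n : ℕ} (h : Sm n) : ∃ a b c e, n = 2 ^ a * 3 ^ b * 5 ^ c * 7 ^ e := by
  obtain ⟨k, hk⟩ := h
  rw [show 210 = 2 * 3 * 5 * 7 from rfl, mul_pow, mul_pow, mul_pow] at hk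
  obtain ⟨u, v, hu, hv, rfl⟩ := (Nat.dvd_mul).1 hk
  obtain ⟨u', w, hu', hw, rfl⟩ := (Nat.dvd_mul).1 hu
  obtain ⟨u'', z, hu'', hz, rfl⟩ := (Nat.dvd_mul).1 hu'
  obtain ⟨a, -, rfl⟩ := (Nat.dvd_prime_pow Nat.prime_two).1 hu''
  obtain ⟨b, -, rfl⟩ := (Nat.dvd_prime_pow Nat.prime_three).1 hz
  obtain ⟨c, -, rfl⟩ := (Nat.dvd_prime_pow Nat.prime_five).1 hw
  obtain ⟨e, -, rfl⟩ := (Nat.dvd_prime_pow (by norm_num)).1 hv
  exact ⟨a, b, c, e, rfl⟩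

theorem Sm.of_sq {n : ℕ} (h : Sm (n * n)) : Sm n := h.of_dvd (dvd_mul_right _ _)

/-- the powers of a solution -/
def pw (d a b : ℕ) : ℕ → ℕ × ℕ
  | 0 => (1, 0)
  | n + 1 => (a * (pw d a b n).1 + d * (b * (pw d a b n).2), a * (pw d a b n).2 + b * (pw d a b n).1)

theorem pw_eq {d a b : ℕ} {u : Solution₁ d} (ha : u.x = a) (hb : u.y = b) (n : ℕ) :
    (u ^ n).x = (pw d a b n).1 ∧ (u ^ n).y = (pw d a b n).2 := by
  induction n with
  | zero => simp [pw]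
  | succ n ih => rw [pow_succ', Solution₁.x_mul, Solution₁.y_mul, ih.1, ih.2, ha, hb]; simp [pw]

theorem dvd_y_pow {d M : ℤ} {u : Solution₁ d} (h : M ∣ u.y) (n : ℕ) : M ∣ (u ^ n).y := by
  induction n with
  | zero => simp
  | succ n ih => rw [pow_succ, Solution₁.y_mul]; exact (h.mul_left _).add (ih.mul_right _)

theorem dvd_y_mod {d M : ℤ} {u : Solution₁ d} {ρ n : ℕ} (h : M ∣ (u ^ ρ).y) (hn : M ∣ (u ^ n).y) :
    M ∣ (u ^ (n % ρ)).y := by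
  have e : u ^ (n % ρ) = ((u ^ ρ) ^ (n / ρ))⁻¹ * u ^ n := by
    rw [← pow_mul, eq_inv_mul_iff_mul_eq, ← pow_add, Nat.div_add_mod]
  rw [e, Solution₁.y_mul, Solution₁.y_inv]
  exact (hn.mul_left _).add ((dvd_y_pow h _).neg_right.mul_right _)

/-- `ρ` is the rank of apparition of `M`, and the term of index `ρ` is not smooth -/
def rk (d a b M ρ : ℕ) : Bool :=
  (pw d a b ρ).2 % M == 0 && (List.range ρ).all (fun s => s == 0 || (pw d a b s).2 % M != 0) &&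
    1 < (pw d a b ρ).2 / Nat.gcd (pw d a b ρ).2 (210 ^ 40) &&
    Nat.gcd ((pw d a b ρ).2 / Nat.gcd (pw d a b ρ).2 (210 ^ 40)) 210 == 1

theorem rk_ok {d a b M ρ : ℕ} (h : rk d a b M ρ = true) {u : Solution₁ d} (ha : u.x = a)
    (hb : u.y = b) {n : ℕ} (hn : Sm (pw d a b n).2) : ¬ M ∣ (pw d a b n).2 := fun hM => by
  simp only [rk, Bool.and_eq_true, beq_iff_eq, List.all_eq_true, List.mem_range, Bool.or_eq_true,
    bne_iff_ne, decide_eq_true_eq] at h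
  obtain ⟨⟨⟨h1, h2⟩, h3⟩, h4⟩ := h
  have ρ0 : 0 < ρ := Nat.pos_of_ne_zero (by rintro rfl; simp [pw] at h3)
  have h5 := dvd_y_mod (M := M) (u := u) (ρ := ρ) (n := n)
    (by rw [(pw_eq ha hb ρ).2]; exact_mod_cast Nat.dvd_of_mod_eq_zero h1)
    (by rw [(pw_eq ha hb n).2]; exact_mod_cast hM)
  rw [(pw_eq ha hb _).2, Int.natCast_dvd_natCast] at h5
  have h6 : n % ρ = 0 := (h2 _ (Nat.mod_lt _ ρ0)).resolve_right fun h =>
    h (Nat.mod_eq_zero_of_dvd h5)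
  obtain ⟨k, rfl⟩ := Nat.dvd_of_mod_eq_zero h6
  have h7 := dvd_y_pow (dvd_refl (u ^ ρ).y) k
  rw [← pow_mul, (pw_eq ha hb _).2, (pw_eq ha hb _).2, Int.natCast_dvd_natCast] at h7
  obtain ⟨l, hl⟩ := (hn.of_dvd h7).of_dvd (Nat.div_dvd_of_dvd (Nat.gcd_dvd_left _ (210 ^ 40)))
  have := (Nat.Coprime.pow_right l h4).eq_one_of_dvd hl
  omega

theorem le_pw {d a b : ℕ} (ha : 2 ≤ a) (hb : 1 ≤ b) (n : ℕ) :
    1 ≤ (pw d a b n).1 ∧ 2 ^ n ≤ (pw d a b n).2 + 1 := by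
  induction n with
  | zero => simp [pw]
  | succ n ih =>
    simp only [pw]
    obtain ⟨h1, h2⟩ := ih
    constructor <;> nlinarith [Nat.zero_le (d * (b * (pw d a b n).2)), pow_succ 2 n,
      Nat.mul_le_mul ha (le_refl (pw d a b n).2), Nat.mul_le_mul hb h1]

/-- the smaller members of the pairs -/
def SL : List ℕ := [1, 2, 3, 4, 5, 6, 7, 8, 9, 14, 15, 20, 24, 27, 35, 48, 49, 63, 80, 125, 224,
  2400, 4374]

/-- the check for one Pell equation -/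
def pc (d a b : ℕ) (K ρ : ℕ × ℕ × ℕ × ℕ) : Bool :=
  a * a == d * (b * b) + 1 && 2 ≤ a && 1 ≤ b &&
  (List.range a).all (fun s => s ≤ 1 || (List.range a).all fun t => s * s != d * (t * t) + 1) &&
  rk d a b (2 ^ (K.1 + 1)) ρ.1 && rk d a b (3 ^ (K.2.1 + 1)) ρ.2.1 &&
  rk d a b (5 ^ (K.2.2.1 + 1)) ρ.2.2.1 && rk d a b (7 ^ (K.2.2.2 + 1)) ρ.2.2.2 &&
  2 ^ K.1 * 3 ^ K.2.1 * 5 ^ K.2.2.1 * 7 ^ K.2.2.2 < 2000 &&
  (List.range 11).all fun n => (pw d a b n).2 == 0 ||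
    (2 ^ K.1 * 3 ^ K.2.1 * 5 ^ K.2.2.1 * 7 ^ K.2.2.2) % (pw d a b n).2 != 0 ||
      (pw d a b n).1 % 2 == 0 || SL.contains ((pw d a b n).1 / 2)

theorem pc_ok {d a b : ℕ} {K ρ : ℕ × ℕ × ℕ × ℕ} (h : pc d a b K ρ = true) {x Y : ℕ}
    (hx : (2 * x + 1) * (2 * x + 1) = d * (Y * Y) + 1) (hY : Sm Y) : x ∈ SL := by
  simp only [pc, Bool.and_eq_true, beq_iff_eq, List.all_eq_true, List.mem_range, Bool.or_eq_true,
    bne_iff_ne, decide_eq_true_eq, List.contains_eq_mem] at h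
  obtain ⟨⟨⟨⟨⟨⟨⟨⟨⟨h1, h2⟩, h3⟩, h4⟩, r2⟩, r3⟩, r5⟩, r7⟩, hB⟩, h5⟩ := h
  let u : Solution₁ d := Solution₁.mk a b (by zify at h1; linear_combination h1)
  let v : Solution₁ d := Solution₁.mk (2 * x + 1 : ℕ) Y (by zify at hx; push_cast; linear_combination hx)
  have hu : IsFundamental u := by
    refine ⟨by simp [u]; omega, by simp [u]; omega, fun {w} hw => ?_⟩
    by_contra hlt
    have e := w.prop
    simp only [u, Solution₁.x_mk, not_le] at hlt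
    obtain ⟨s, hs⟩ := Int.eq_ofNat_of_zero_le (show 0 ≤ w.x by omega)
    have e' : s * s = d * (w.y.natAbs * w.y.natAbs) + 1 := by
      zify; rw [abs_mul_abs_self]; rw [hs] at e; linear_combination e
    have d0 : 1 ≤ d := Nat.pos_of_ne_zero (by rintro rfl; nlinarith)
    have sa : s < a := by omega
    refine ((h4 s sa).resolve_left (by omega)) w.y.natAbs ?_ e'
    by_contra hle
    nlinarith [Nat.mul_le_mul d0 (le_refl (w.y.natAbs * w.y.natAbs))]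
  obtain ⟨n, hn⟩ := hu.eq_pow_of_nonneg (a := v) (by simp [v]) (by simp [v])
  obtain ⟨e1, e2⟩ := pw_eq (u := u) (a := a) (b := b) rfl rfl n
  rw [← hn] at e1 e2
  simp only [v, Solution₁.x_mk, Solution₁.y_mk, Nat.cast_inj] at e1 e2
  have k2 := rk_ok r2 (u := u) rfl rfl (e2 ▸ hY)
  have k3 := rk_ok r3 (u := u) rfl rfl (e2 ▸ hY)
  have k5 := rk_ok r5 (u := u) rfl rfl (e2 ▸ hY)
  have k7 := rk_ok r7 (u := u) rfl rfl (e2 ▸ hY)
  have hle := (le_pw (d := d) h2 h3 n).2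
  rw [← e2] at k2 k3 k5 k7 hle
  obtain ⟨i, j, k, l, hY⟩ := hY.exists
  have hd : Y ∣ 2 ^ K.1 * 3 ^ K.2.1 * 5 ^ K.2.2.1 * 7 ^ K.2.2.2 := by
    rw [hY] at k2 k3 k5 k7 ⊢
    refine mul_dvd_mul (mul_dvd_mul (mul_dvd_mul (pow_dvd_pow _ ?_) (pow_dvd_pow _ ?_))
      (pow_dvd_pow _ ?_)) (pow_dvd_pow _ ?_) <;> by_contra hh
    · exact k2 ((((pow_dvd_pow _ (by omega)).mul_right _).mul_right _).mul_right _)
    · exact k3 ((((pow_dvd_pow _ (by omega)).mul_left _).mul_right _).mul_right _)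
    · exact k5 (((pow_dvd_pow _ (by omega)).mul_left _).mul_right _)
    · exact k7 ((pow_dvd_pow _ (by omega)).mul_left _)
  have hle' := Nat.le_of_dvd (by positivity) hd
  have n11 : n < 11 := (Nat.pow_lt_pow_iff_right one_lt_two).1 (by omega)
  have h6 := h5 n n11
  rw [← e1, ← e2] at h6
  have Y0 : Y ≠ 0 := by rw [hY]; positivity
  rcases h6 with ((h6 | h6) | h6) | h6
  · exact absurd h6 Y0
  · exact absurd (Nat.mod_eq_zero_of_dvd hd) h6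
  · omega
  · rwa [show (2 * x + 1) / 2 = x by omega] at h6

theorem stormer {x : ℕ} (h0 : Sm x) (h1 : Sm (x + 1)) : x ∈ SL := by
  obtain ⟨a, b, c, e, h⟩ := (h0.mul h1).exists
  have x0 : x ≠ 0 := by rintro rfl; simp at h
  have hY := (sm_pow (r := 2) (by norm_num) 1).mul (sm_prod (a / 2) (b / 2) (c / 2) (e / 2))
  have hx : (2 * x + 1) * (2 * x + 1) = (2 ^ (a % 2) * 3 ^ (b % 2) * 5 ^ (c % 2) * 7 ^ (e % 2)) *
      ((2 ^ 1 * (2 ^ (a / 2) * 3 ^ (b / 2) * 5 ^ (c / 2) * 7 ^ (e / 2))) *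
        (2 ^ 1 * (2 ^ (a / 2) * 3 ^ (b / 2) * 5 ^ (c / 2) * 7 ^ (e / 2)))) + 1 := by
    rw [← Nat.div_add_mod a 2, ← Nat.div_add_mod b 2, ← Nat.div_add_mod c 2,
      ← Nat.div_add_mod e 2] at h
    generalize a / 2 = a', b / 2 = b', c / 2 = c', e / 2 = e', a % 2 = a'', b % 2 = b'',
      c % 2 = c'', e % 2 = e'' at h ⊢
    rw [show (2 * x + 1) * (2 * x + 1) = 4 * (x * (x + 1)) + 1 by ring, h]
    ring
  generalize 2 ^ 1 * (2 ^ (a / 2) * 3 ^ (b / 2) * 5 ^ (c / 2) * 7 ^ (e / 2)) = Y at hx hY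
  rcases Nat.mod_two_eq_zero_or_one a with ha | ha <;>
  rcases Nat.mod_two_eq_zero_or_one b with hb | hb <;>
  rcases Nat.mod_two_eq_zero_or_one c with hc | hc <;>
  rcases Nat.mod_two_eq_zero_or_one e with he | he <;> rw [ha, hb, hc, he] at hx <;>
    norm_num only at hx
  · exfalso
    have h1 : Y < 2 * x + 1 := by nlinarith
    have h2 : 2 * x < Y := by
      by_contra hh
      have : Y ≤ 2 * x := by omega
      nlinarith [Nat.mul_le_mul this this, Nat.pos_of_ne_zero x0]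
    omega
  · exact pc_ok (a := 8) (b := 3) (K := (4, 1, 0, 0)) (ρ := (4, 3, 3, 7)) (by decide +kernel) hx hY
  · exact pc_ok (a := 9) (b := 4) (K := (3, 2, 0, 0)) (ρ := (4, 6, 5, 4)) (by decide +kernel) hx hY
  · exact pc_ok (a := 6) (b := 1) (K := (2, 1, 0, 0)) (ρ := (4, 6, 5, 7)) (by decide +kernel) hx hY
  · exact pc_ok (a := 2) (b := 1) (K := (3, 1, 1, 1)) (ρ := (8, 9, 15, 28)) (by decide +kernel) hx hY
  · exact pc_ok (a := 55) (b := 12) (K := (2, 1, 0, 0)) (ρ := (2, 3, 2, 7)) (by decide +kernel) hx hY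
  · exact pc_ok (a := 4) (b := 1) (K := (3, 2, 0, 1)) (ρ := (4, 9, 5, 21)) (by decide +kernel) hx hY
  · exact pc_ok (a := 41) (b := 4) (K := (2, 0, 0, 0)) (ρ := (2, 3, 5, 7)) (by decide +kernel) hx hY
  · exact pc_ok (a := 3) (b := 2) (K := (2, 1, 1, 1)) (ρ := (4, 6, 15, 21)) (by decide +kernel) hx hY
  · exact pc_ok (a := 15) (b := 4) (K := (3, 1, 1, 0)) (ρ := (4, 6, 10, 7)) (by decide +kernel) hx hY
  · exact pc_ok (a := 19) (b := 6) (K := (1, 1, 0, 0)) (ρ := (2, 3, 5, 4)) (by decide +kernel) hx hY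
  · exact pc_ok (a := 251) (b := 30) (K := (1, 1, 1, 0)) (ρ := (2, 3, 5, 7)) (by decide +kernel) hx hY
  · exact pc_ok (a := 5) (b := 2) (K := (3, 0, 1, 2)) (ρ := (8, 3, 10, 28)) (by decide +kernel) hx hY
  · exact pc_ok (a := 13) (b := 2) (K := (1, 3, 2, 0)) (ρ := (2, 9, 15, 7)) (by decide +kernel) hx hY
  · exact pc_ok (a := 11) (b := 2) (K := (1, 0, 0, 0)) (ρ := (2, 3, 5, 3)) (by decide +kernel) hx hY
  · exact pc_ok (a := 29) (b := 2) (K := (1, 0, 0, 0)) (ρ := (2, 3, 5, 7)) (by decide +kernel) hx hY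

end Cfsg.Agent.Alex
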