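import Cfsg.Agent.Alex.Num
import Cfsg.Agent.Alex.Dat
import Cfsg.Agent.Alex.Grp

/-! Reduction to finitely many orders. -/

set_option autoImplicit false
set_option linter.style.haveILetI false
set_option linter.unusedSectionVars false

namespace Cfsg.Agent.Alex

open Subgroup Cfsg.Agent.Char Cfsg.Agent.Char.Euclid Cfsg.Agent.Block Cfsg.Agent.Math Cfsg.Agent.K3

variable {G : Type*} [Group G] [Finite G] {p : ℕ}

theorem rep_of_inj {T : Finset G} (h : ∀ g ∈ T, g ≠ 1 ∧ ¬ p ∣ orderOf g)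
    (h' : ∀ g ∈ T, ∀ k ∈ T, orderOf g = orderOf k → g = k) : Rep p T :=
  ⟨h, fun g hg k hk e => h' g hg k hk (by
    obtain ⟨c, rfl⟩ := isConj_iff.1 e
    exact (orderOf_injective (MulAut.conj c).toMonoidHom (MulAut.conj c).injective g).symm)⟩

theorem ne_one_of {g : G} {r : ℕ} (h : orderOf g = r) (hr : r ≠ 1) : g ≠ 1 := by
  rintro rfl
  exact hr (by simpa using h.symm)

namespace Dat

variable (D : Dat G p)

theorem jpos {g : G} (h1 : g ≠ 1) (h2 : ¬ p ∣ orderOf g) : 0 < D.j g := Nat.pos_of_ne_zero fun h => by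
  have h3 := D.hj g h1 h2
  have h4 := D.hmod
  rw [h, zero_mul] at h3
  simp [← h3] at h4

theorem idx {g : G} (h1 : g ≠ 1) (h2 : ¬ p ∣ orderOf g) :
    (centralizer ({g} : Set G)).index = p * D.j g :=
  Nat.eq_of_mul_eq_mul_right (Nat.card_pos (α := centralizer ({g} : Set G))) (by
    rw [index_mul_card, D.card, mul_assoc, D.hj g h1 h2])

theorem ge (g : G) : -D.x ≤ D.b g := by
  have := abs_le_dg (D.hχ g)
  rw [D.dχ] at this
  exact neg_le_of_abs_le this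

theorem lb {g : G} (h1 : g ≠ 1) (h2 : ¬ p ∣ orderOf g) : (D.W : ℤ) ≤ D.j g * (D.x - D.b g) :=
  Int.le_of_dvd (mul_pos (Nat.cast_pos.2 (D.jpos h1 h2)) (sub_pos.2 (D.lt g h1))) (D.Wg g h1 h2)

theorem cong {r : ℕ} (hr : r.Prime) (g : G) : (r : ℤ) ∣ D.b g - D.b (g ^ r) :=
  dvd_sub_of_pow D.χ.2.isCharacter hr (D.hχ _) (D.hχ _)

theorem b_one : D.b 1 = D.x := by
  have := (D.hχ 1).symm.trans (dg_cast D.χ).symm
  rw [D.dχ] at this
  exact_mod_cast this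

theorem b_conj {g h : G} (e : IsConj g h) : D.b g = D.b h := by
  obtain ⟨c, rfl⟩ := isConj_iff.1 e
  exact_mod_cast (D.hχ g).symm.trans ((D.χ.2.isClassFunction g c).symm.trans (D.hχ _))

theorem cong' {r : ℕ} (hr : r.Prime) (k : ℕ) (g : G) (h : g ^ r ^ k = 1) :
    (r : ℤ) ∣ D.x - D.b g := by
  induction k generalizing g with
  | zero => rw [show g = 1 by simpa using h, D.b_one]; simp
  | succ k ih =>
    have := dvd_sub (ih (g ^ r) (by rwa [← pow_mul, ← pow_succ'])) (D.cong hr g)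
    rwa [sub_sub, add_sub_cancel] at this

theorem vp {g : G} {r : ℕ} (hr : r.Prime) (h : orderOf g = r) (h2 : ¬ p ∣ r) :
    (r : ℤ) ∣ D.x - D.b g ∧ 0 ≤ D.x + ((r : ℤ) - 1) * D.b g ∧
      0 ≤ D.y + ((r : ℤ) - 1) * (D.b g + D.δ) := by
  have h3 := val_prime hr h (D.hχ g)
  have h4 := val_prime hr h (D.hθ g (h ▸ h2))
  rw [D.dχ] at h3
  rw [D.dθ] at h4
  exact ⟨h3.2.2, h3.2.1, h4.2.1⟩

theorem central (hp : p.Prime) {r : ℕ} (hr : r.Prime) (h : r ∣ D.m) (h2 : ¬ p ∣ r) :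
    ∃ z : G, orderOf z = r ∧ ¬ r ∣ D.j z := by
  obtain ⟨z, h3, h4⟩ := exists_central hr (D.card ▸ h.mul_left p)
  rw [D.idx (ne_one_of h3 hr.ne_one) (h3 ▸ h2)] at h4
  exact ⟨z, h3, fun h => h4 (h.mul_left _)⟩

theorem comb {z : G} {r s : ℕ} (hr : r.Prime) (hs : s.Prime) (hrs : r ≠ s) (hz : orderOf z = r)
    (h : s ∣ cc z) : ∃ w g : G, orderOf w = s ∧ orderOf g = r * s ∧ (s : ℤ) ∣ D.b g - D.b z ∧
      (r : ℤ) ∣ D.b g - D.b w := by
  haveI := Fact.mk hs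
  obtain ⟨w, hw⟩ := exists_prime_orderOf_dvd_card' (G := centralizer ({z} : Set G)) s h
  rw [← orderOf_coe] at hw
  have hc : Commute z w := (mem_centralizer_singleton_iff.1 w.2).symm
  have k : ∀ {u : G} {a b : ℕ}, a.Prime → b.Prime → a ≠ b → orderOf u = a → D.b (u ^ b) = D.b u :=
    fun {u a b} ha hb hab hu => by
      have := (val_prime ha hu (D.hχ u)).1 (u ^ b) (npow_mem_zpowers u b) fun h =>
        hab ((Nat.prime_dvd_prime_iff_eq ha hb).1 (hu ▸ orderOf_dvd_of_pow_eq_one h))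
      rw [D.hχ] at this
      exact_mod_cast this
  refine ⟨w, z * w, hw, ?_, ?_, ?_⟩
  · rw [hc.orderOf_mul_eq_mul_orderOf_of_coprime
      (by rw [hz, hw]; exact (Nat.coprime_primes hr hs).2 hrs), hz, hw]
  · have := D.cong hs (z * w)
    rwa [hc.mul_pow, ← hw, pow_orderOf_eq_one, mul_one, hw, k hr hs hrs hz] at this
  · have := D.cong hr (z * w)
    rwa [hc.mul_pow, ← hz, pow_orderOf_eq_one, one_mul, hz, k hs hr hrs.symm hw] at this

theorem exists_Z (hp : p.Prime) (p5 : 5 ≤ p) {r : ℕ} (hr : r.Prime) : ∃ Z : Finset G,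
    (∀ g ∈ Z, orderOf g = r ∧ ¬ p ∣ r) ∧ Z.card ≤ 1 ∧ Adm D.x D.y D.δ D.m D.W r
      (∑ g ∈ Z, D.j g * (D.b g * (D.b g + D.δ)))
      (∑ g ∈ Z, D.j g * ((D.b g + D.δ) * (D.b g + 2 * D.δ))) := by
  by_cases h : r ∣ D.m
  swap
  · exact ⟨∅, by simp, by simp, by simp, by simp, fun h' => absurd h' h⟩
  have h2 : ¬ p ∣ r := fun h' => by
    have h3 := (Nat.dvd_mod_iff (dvd_mul_left p 2)).2 (h'.trans h)
    have := Nat.le_of_dvd two_pos (D.hmod ▸ h3)
    omega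
  obtain ⟨z, h3, h4⟩ := D.central hp hr h h2
  have z1 := ne_one_of h3 hr.ne_one
  obtain ⟨v1, v2, v3⟩ := D.vp hr h3 h2
  refine ⟨{z}, by simp [h3, h2], by simp, ?_, ?_, fun _ => ⟨D.j z, D.b z, D.jpos z1 (h3 ▸ h2), h4,
    D.Wg z z1 (h3 ▸ h2), D.lt z z1, D.ge z, v1, v2, v3, by simp, by simp⟩⟩ <;>
    rw [Finset.sum_singleton]
  · exact mul_nonneg (by positivity) (consec D.hδ _)
  · exact mul_nonneg (by positivity) (consec' D.hδ _)

theorem exists_out [IsSimpleGroup G] (hG : ¬ IsMulCommutative G) (hp : p.Prime) (p5 : 5 ≤ p)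
    (hm : Sm D.m) : ∃ t : G, orderOf t = 2 ∧ Out D.x D.y D.δ p D.m (D.j t) (D.b t) := by
  classical
  have m2 : 2 ∣ D.m := (Nat.dvd_mod_iff (dvd_mul_right 2 p)).1 (by rw [D.hmod])
  have p2 : ¬ p ∣ 2 := fun h => by have := Nat.le_of_dvd two_pos h; omega
  obtain ⟨t, ht, hj⟩ := D.central hp Nat.prime_two m2 p2
  have t1 := ne_one_of ht (by norm_num)
  have h4 := four_dvd hG (show t * t = 1 by rw [← sq, ← ht, pow_orderOf_eq_one]) D.χ
  rw [D.dχ, iv_eq (D.hχ t)] at h4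
  obtain ⟨Z3, o3, c3, a3⟩ := D.exists_Z hp p5 Nat.prime_three
  obtain ⟨Z5, o5, c5, a5⟩ := D.exists_Z hp p5 Nat.prime_five
  obtain ⟨Z7, o7, c7, a7⟩ := D.exists_Z hp p5 (r := 7) (by norm_num)
  have hT : Rep p (insert t (Z3 ∪ Z5 ∪ Z7)) := by
    refine rep_of_inj (fun g hg => ?_) fun g hg k hk e => ?_
    · simp only [Finset.mem_insert, Finset.mem_union] at hg
      rcases hg with rfl | (h | h) | h
      · exact ⟨t1, ht ▸ p2⟩
      · exact ⟨ne_one_of (o3 g h).1 (by norm_num), (o3 g h).1 ▸ (o3 g h).2⟩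
      · exact ⟨ne_one_of (o5 g h).1 (by norm_num), (o5 g h).1 ▸ (o5 g h).2⟩
      · exact ⟨ne_one_of (o7 g h).1 (by norm_num), (o7 g h).1 ▸ (o7 g h).2⟩
    · simp only [Finset.mem_insert, Finset.mem_union] at hg hk
      have := Finset.card_le_one.1 c3 g
      have := Finset.card_le_one.1 c5 g
      have := Finset.card_le_one.1 c7 g
      have := o3 g
      have := o5 g
      have := o7 g
      have := o3 k
      have := o5 k
      have := o7 k
      grind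
  have d1 : t ∉ Z3 ∪ Z5 ∪ Z7 := fun h => by
    simp only [Finset.mem_union] at h
    have := o3 t
    have := o5 t
    have := o7 t
    grind
  have d2 : Disjoint (Z3 ∪ Z5) Z7 := Finset.disjoint_left.2 fun g h h' => by
    simp only [Finset.mem_union] at h
    have := o3 g
    have := o5 g
    have := o7 g
    grind
  have d3 : Disjoint Z3 Z5 := Finset.disjoint_left.2 fun g h h' => by
    have := o3 g
    have := o5 g
    grind
  have s1 := D.s1 _ hT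
  have s2 := D.s2 _ hT
  rw [Finset.sum_insert d1, Finset.sum_union d2, Finset.sum_union d3, mul_add (p : ℤ),
    ← add_assoc] at s1 s2
  exact ⟨t, ht, sieve D.hδ D.hy D.x2 D.y2 hp p5 D.px hm D.xm D.ym D.hmod D.hW (D.Wt t ht) (D.lt t t1)
    (D.ge t) h4 (by omega) (Dvd.intro _ (D.hj t t1 (ht ▸ p2))) a3 a5 a7 s1 s2⟩

theorem e8 (p2 : ¬ p ∣ 2) {t : G} (ht : orderOf t = 2) {E : Subgroup G} (hE : Nat.card E = 8)
    (h2 : ∀ e ∈ E, e * e = 1) : (D.x - D.b t) % 8 = 0 ∧ 0 ≤ D.x + 7 * D.b t ∧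
      0 ≤ D.y + 7 * (D.b t + D.δ) := by
  haveI := Fintype.ofFinite E
  have o : ∀ e ∈ E, e ≠ 1 → orderOf e = 2 := fun e he h =>
    orderOf_eq_prime ((sq _).trans (h2 e he)) h
  have k : ∀ (ψ : IrrCharacter G) (a : ℤ), (∀ z ∈ E, z ≠ 1 → ψ.1 z = a) →
      ∃ n : ℕ, (dg ψ : ℤ) + 7 * a = 8 * n := fun ψ a h => by
    obtain ⟨n, hn⟩ := (ψ.2.isCharacter.restrict E).exists_nat_inner isCharacter_one
    rw [classInner_one_right, SelfC.sum_subgroup_eq h, ← dg_cast,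
      inv_mul_eq_iff_eq_mul₀ (card_ne_zero _), hE] at hn
    refine ⟨n, ?_⟩
    have : (dg ψ : ℂ) + 7 * a = 8 * n := by rw [← Nat.cast_ofNat (n := 8), ← hn]; norm_num
    exact_mod_cast this
  obtain ⟨n, hn⟩ := k D.χ (D.b t) fun z hz h => by rw [D.hχ, D.b_conj (D.cj z t (o z hz h) ht)]
  obtain ⟨n', hn'⟩ := k D.θ (D.b t + D.δ) fun z hz h => by
    rw [D.hθ z (o z hz h ▸ p2), D.b_conj (D.cj z t (o z hz h) ht)]
  rw [D.dχ] at hn
  rw [D.dθ] at hn'
  omega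

end Dat

end Cfsg.Agent.Alex
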