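import Cfsg.Agent.Alex.Red

/-! The four special configurations. -/

set_option autoImplicit false
set_option linter.style.haveILetI false
set_option linter.unusedSectionVars false

namespace Cfsg.Agent.Alex.Dat

open Subgroup Cfsg.Agent.Char Cfsg.Agent.Char.Euclid Cfsg.Agent.Block Cfsg.Agent.Math Cfsg.Agent.K3

variable {G : Type*} [Group G] [Finite G]

theorem reg {p r : ℕ} {g : G} (h : orderOf g = r) (h1 : r ≠ 1) (h2 : ¬ p ∣ r) :
    g ≠ 1 ∧ ¬ p ∣ orderOf g := ⟨ne_one_of h h1, h ▸ h2⟩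

theorem ar1 {b : ℤ} (h : 64 ∣ 1260000 * (64 - b)) : 2 ∣ b := by
  obtain ⟨k, hk⟩ := h
  exact ⟨k - 19687 * b + 39375 * b - 1260000, by linarith⟩

theorem ar2 {j b : ℤ} (h1 : 100800 ≤ j * (64 - b)) (h2 : 2 ∣ b) (h3 : 5 ∣ 64 - b) (h4 : b < 64)
    (h5 : 0 ≤ 64 + (5 - 1) * b) : 20160 ≤ j * (b * (b + -1)) := by
  obtain rfl | rfl | rfl | rfl | rfl | rfl | rfl | rfl : b = -16 ∨ b = -6 ∨ b = 4 ∨ b = 14 ∨
    b = 24 ∨ b = 34 ∨ b = 44 ∨ b = 54 := by omega
  all_goals omega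

theorem ar3 {j b : ℤ} (h1 : 100800 ≤ j * (64 - b)) (h3 : 5 ^ 2 ∣ 64 - b) (h4 : b < 64)
    (h5 : 0 ≤ 64 + (5 - 1) * b) (h6 : 64 * 63 + 13 * (j * (b * (b + -1))) ≤ 2520000) :
    b = -11 ∧ 177408 ≤ j * (b * (b + -1)) := by
  obtain rfl | rfl | rfl : b = -11 ∨ b = 14 ∨ b = 39 := by omega
  all_goals omega

theorem ar4 {j b : ℤ} (h0 : 0 < j) (h1 : 423360 ∣ j * (64 - b)) (h2 : 5 ∣ b - 15) (h3 : -64 ≤ b)
    (h4 : b < 64) (h5 : j * (b * (b + -1)) ≤ 899136) : b = 0 ∨ b = 10 := by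
  obtain ⟨k, hk⟩ := h2
  obtain rfl : b = 5 * k + 15 := by omega
  obtain ⟨l1, l2⟩ : -16 ≤ k ∧ k ≤ 9 := by omega
  interval_cases k <;> omega

theorem ar5 {j b c : ℤ} (h0 : 0 < j) (h1 : 423360 ∣ j * (64 - b)) (h2 : 5 ∣ 64 - b)
    (h3 : 0 ≤ 64 + (5 - 1) * b) (h4 : b < 64) (h5 : j * (b * (b + -1)) ≤ 899136)
    (h6 : c = 0 ∨ c = 10) (h7 : 7 ∣ c - b) : False := by
  obtain rfl | rfl | rfl | rfl | rfl : b = 14 ∨ b = 49 ∨ b = -11 ∨ b = 24 ∨ b = 59 := by omega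
  all_goals omega

theorem ar6 {j b : ℤ} (h1 : 423360 ≤ j * (64 - b)) (h3 : 3 ^ 3 ∣ 64 - b) (h4 : b < 64)
    (h5 : 0 ≤ 64 + (3 - 1) * b) : 705600 ≤ j * (b * (b + -1)) := by
  obtain rfl | rfl | rfl : b = -17 ∨ b = 10 ∨ b = 37 := by omega
  all_goals omega

theorem sp1 (D : Dat G 13) (hx : D.x = 64) (hy : D.y = 63) (hm : D.m = 2520000) {t : G}
    (ht : orderOf t = 2) (hj : D.j t = 1575) (hb : D.b t = 0) : False := by
  classical
  have hδ : D.δ = -1 := by have := D.hy; omega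
  have hW : (D.W : ℤ) = 100800 := by rw [D.Wt t ht, hj, hb, hx]; norm_num
  have hc : cc t = 1600 := by
    have := D.hj t (ne_one_of ht (by norm_num)) (by rw [ht]; norm_num)
    rw [hj, hm] at this
    omega
  obtain ⟨z, oz, jz⟩ := D.central (r := 5) (by norm_num) (by norm_num) (by rw [hm]; norm_num)
    (by norm_num)
  obtain ⟨w, ow⟩ := exists_prime_orderOf_dvd_card' (G := centralizer ({t} : Set G)) 5
    (hp := ⟨by norm_num⟩) (by rw [← cc, hc]; norm_num)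
  rw [← orderOf_coe] at ow
  have h2 : 2 ∣ cc (w : G) := ht ▸ orderOf_dvd_natCard _
    (mem_centralizer_singleton_iff.2 (mem_centralizer_singleton_iff.1 w.2).symm)
  generalize (w : G) = w at ow h2
  obtain ⟨z1, zp⟩ := reg (p := 13) oz (by norm_num) (by norm_num)
  obtain ⟨w1, wp⟩ := reg (p := 13) ow (by norm_num) (by norm_num)
  obtain ⟨c, h2⟩ := h2
  have a1 := D.hj w w1 wp
  have a2 := D.Wg w w1 wp
  have a3 := D.Wg z z1 zp
  have a4 := D.lb w1 wp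
  have a5 := D.lb z1 zp
  have a6 := D.lt w w1
  have a7 := D.lt z z1
  obtain ⟨a8, a9, -⟩ := D.vp Nat.prime_five ow (by norm_num)
  obtain ⟨-, a10, -⟩ := D.vp Nat.prime_five oz (by norm_num)
  rw [hW, hx] at a2 a3 a4 a5
  rw [hx] at a6 a7 a8 a9 a10
  have b1 : (5 : ℤ) ^ 2 ∣ (64 : ℕ) - D.b z :=
    ((Nat.isCoprime_iff_coprime.2 ((Nat.Prime.coprime_iff_not_dvd Nat.prime_five).2 jz)).pow_left
      (m := 2)).dvd_of_dvd_mul_left ((by norm_num : (5 : ℤ) ^ 2 ∣ 100800).trans a3)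
  have b2 : (2 : ℤ) ∣ D.b w := by
    have h3 := ((by norm_num : (64 : ℤ) ∣ 100800).trans a2).mul_left c
    have h4 : (c : ℤ) * D.j w = 1260000 := by
      rw [h2, hm] at a1
      exact_mod_cast (show c * D.j w = 1260000 by linarith)
    rw [← mul_assoc, h4] at h3
    exact ar1 h3
  have b4 := ar2 a4 b2 a8 a6 a9
  have s0 := D.s1 {z} ⟨by simp [z1, zp], by simp⟩
  rw [Finset.sum_singleton, hx, hy, hm, hδ] at s0
  obtain ⟨b5, b3⟩ := ar3 a5 b1 a7 a10 s0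
  have nc : ¬ IsConj z w := fun h => by
    rw [← D.b_conj h, b5] at b2
    exact absurd b2 (by norm_num)
  have s := D.s1 {z, w} ⟨by simp [z1, zp, w1, wp], by
    simp only [Finset.mem_insert, Finset.mem_singleton]
    rintro _ (rfl | rfl) _ (rfl | rfl) h
    exacts [rfl, absurd h nc, absurd h.symm nc, rfl]⟩
  rw [Finset.sum_pair (fun h : z = w => nc (h ▸ IsConj.refl _)), hx, hy, hm, hδ] at s
  push_cast at s
  linarith

theorem rep4 [DecidableEq G] {p : ℕ} {a b c d : G} {i j k l : ℕ} (ha : orderOf a = i)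
    (hb : orderOf b = j) (hc : orderOf c = k) (hd : orderOf d = l) (h : [1, i, j, k, l].Nodup)
    (hp : ¬ p ∣ i ∧ ¬ p ∣ j ∧ ¬ p ∣ k ∧ ¬ p ∣ l) (f : G → ℤ) :
    Rep p {a, b, c, d} ∧ ∑ g ∈ {a, b, c, d}, f g = f a + f b + f c + f d := by
  simp only [List.nodup_cons, List.mem_cons, not_or] at h
  have := orderOf_one (G := G)
  refine ⟨rep_of_inj (by grind) (by grind), ?_⟩
  rw [Finset.sum_insert (by grind), Finset.sum_insert (by grind), Finset.sum_pair (by grind)]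
  ring

theorem sp2 (D : Dat G 13) (hx : D.x = 64) (hy : D.y = 63) (hm : D.m = 44452800) {t : G}
    (ht : orderOf t = 2) (hj : D.j t = 6615) (hb : D.b t = 0) : False := by
  classical
  have hδ : D.δ = -1 := by have := D.hy; omega
  have hW : (D.W : ℤ) = 423360 := by rw [D.Wt t ht, hj, hb, hx]; norm_num
  obtain ⟨z, oz, jz⟩ := D.central (r := 7) (by norm_num) (by norm_num) (by rw [hm]; norm_num)
    (by norm_num)
  obtain ⟨u, ou, ju⟩ := D.central (r := 3) (by norm_num) (by norm_num) (by rw [hm]; norm_num)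
    (by norm_num)
  obtain ⟨z1, zp⟩ := reg (p := 13) oz (by norm_num) (by norm_num)
  obtain ⟨u1, up⟩ := reg (p := 13) ou (by norm_num) (by norm_num)
  have a1 := D.hj z z1 zp
  have a2 := D.Wg z z1 zp
  have a3 := D.Wg u u1 up
  have a4 := D.lb u1 up
  have a5 := D.lt z z1
  have a6 := D.lt u u1
  have a7 := D.jpos z1 zp
  obtain ⟨-, a8, -⟩ := D.vp (by norm_num) oz (by norm_num)
  obtain ⟨-, a9, -⟩ := D.vp (by norm_num) ou (by norm_num)
  rw [hW, hx] at a2 a3 a4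
  rw [hx] at a5 a6 a8 a9
  have b1 : (7 : ℤ) ^ 2 ∣ (64 : ℕ) - D.b z :=
    ((Nat.isCoprime_iff_coprime.2 ((Nat.Prime.coprime_iff_not_dvd (by norm_num)).2 jz)).pow_left
      (m := 2)).dvd_of_dvd_mul_left ((by norm_num : (7 : ℤ) ^ 2 ∣ 423360).trans a2)
  have b2 : (3 : ℤ) ^ 3 ∣ (64 : ℕ) - D.b u :=
    ((Nat.isCoprime_iff_coprime.2 ((Nat.Prime.coprime_iff_not_dvd (by norm_num)).2 ju)).pow_left
      (m := 3)).dvd_of_dvd_mul_left ((by norm_num : (3 : ℤ) ^ 3 ∣ 423360).trans a3)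
  have b3 : D.b z = 15 := by clear a1 a2 a3 a4; omega
  have b4 := ar6 a4 b2 a6 a9
  have s0 := D.s1 {z} ⟨by simp [z1, zp], by simp⟩
  rw [Finset.sum_singleton, hx, hy, hm, hδ, b3] at s0
  rw [b3] at a2
  have b5 : D.j z = 8640 := by clear a1 a3 a4 b4; omega
  rw [b5, hm] at a1
  obtain ⟨w, g, ow, og, c1, c2⟩ := D.comb (r := 7) (s := 5) (by norm_num) (by norm_num)
    (by norm_num) oz (by clear a3 a4 b4; omega)
  obtain ⟨w1, wp⟩ := reg (p := 13) ow (by norm_num) (by norm_num)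
  obtain ⟨g1, gp⟩ := reg (p := 13) og (by norm_num) (by norm_num)
  obtain ⟨hT, e⟩ := rep4 (p := 13) oz ou ow og (by decide) (by norm_num)
    fun g => D.j g * (D.b g * (D.b g + D.δ))
  have s := D.s1 _ hT
  rw [e, hx, hy, hm, hδ, b3, b5] at s
  have d1 := D.Wg w w1 wp
  have d2 := D.Wg g g1 gp
  have d3 := D.lt w w1
  have d4 := D.lt g g1
  have d5 := D.jpos w1 wp
  have d6 := D.jpos g1 gp
  have d7 := D.ge g
  obtain ⟨d8, d9, -⟩ := D.vp (by norm_num) ow (by norm_num)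
  rw [hW, hx] at d1 d2
  rw [hx] at d3 d4 d7 d8 d9
  rw [b3] at c1
  have n1 := mul_nonneg (Nat.cast_nonneg (D.j w)) (consec (.inr rfl) (D.b w))
  have n2 := mul_nonneg (Nat.cast_nonneg (D.j g)) (consec (.inr rfl) (D.b g))
  push_cast at s
  exact ar5 (Nat.cast_pos.2 d5) d1 d8 d9 d3 (by linarith)
    (ar4 (Nat.cast_pos.2 d6) d2 c1 d7 d4 (by linarith)) c2

theorem zero_one {p : ℕ} (D : Dat G p) (hp : 0 < p) (hδ : D.δ = -1) (hm : D.m = D.x * D.y) {g : G}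
    (g1 : g ≠ 1) (gp : ¬ p ∣ orderOf g) : D.b g = 0 ∨ D.b g = 1 := by
  have s0 := D.s1 {g} ⟨by simp [g1, gp], by simp⟩
  rw [Finset.sum_singleton, hm, hδ, Nat.cast_mul, add_le_iff_nonpos_right] at s0
  have h1 := nonpos_of_mul_nonpos_right s0 (Nat.cast_pos.2 hp)
  have h2 := nonpos_of_mul_nonpos_right h1 (Nat.cast_pos.2 (D.jpos g1 gp))
  by_contra h
  rcases le_or_gt (D.b g) 0 with h3 | h3
  · nlinarith [show D.b g ≤ -1 by omega]
  · nlinarith [show 2 ≤ D.b g by omega]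

theorem sp3 (D : Dat G 113) (hx : D.x = 225) (hy : D.y = 224) (hm : D.m = 50400) {t : G}
    (ht : orderOf t = 2) (hj : D.j t = 225) (hb : D.b t = 1) : False := by
  classical
  have hδ : D.δ = -1 := by have := D.hy; omega
  have hW : (D.W : ℤ) = 50400 := by rw [D.Wt t ht, hj, hb, hx]; norm_num
  have zo := fun g => D.zero_one (g := g) (by norm_num) hδ (by rw [hm, hx, hy])
  obtain ⟨z, oz, -⟩ := D.central (r := 3) (by norm_num) (by norm_num) (by rw [hm]; norm_num)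
    (by norm_num)
  obtain ⟨z1, zp⟩ := reg (p := 113) oz (by norm_num) (by norm_num)
  have a1 := D.hj z z1 zp
  have a2 := D.Wg z z1 zp
  have a3 := D.jpos z1 zp
  obtain ⟨a4, -⟩ := D.vp (by norm_num) oz (by norm_num)
  have a5 := zo z z1 zp
  rw [hx] at a4
  have b1 : D.b z = 0 := by omega
  have s0 := D.s2 {z} ⟨by simp [z1, zp], by simp⟩
  rw [Finset.sum_singleton, hy, hm, hδ, b1] at s0
  rw [hW, hx, b1] at a2
  rw [hm] at a1
  have b2 : 5 ∣ cc z := by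
    obtain h | h : D.j z = 224 ∨ D.j z = 448 := by omega
    all_goals rw [h] at a1; omega
  obtain ⟨w, g, ow, og, c1, -⟩ := D.comb (r := 3) (s := 5) (by norm_num) (by norm_num)
    (by norm_num) oz b2
  obtain ⟨w1, wp⟩ := reg (p := 113) ow (by norm_num) (by norm_num)
  obtain ⟨g1, gp⟩ := reg (p := 113) og (by norm_num) (by norm_num)
  obtain ⟨hT, e⟩ := rep4 (p := 113) oz ht ow og (by decide) (by norm_num)
    fun g => D.j g * ((D.b g + D.δ) * (D.b g + 2 * D.δ))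
  have s := D.s2 _ hT
  obtain ⟨d1, -⟩ := D.vp (by norm_num) ow (by norm_num)
  have d2 := zo w w1 wp
  have d3 := zo g g1 gp
  have d4 := D.lb w1 wp
  have d5 := D.lb g1 gp
  rw [hx] at d1
  have b3 : D.b w = 0 := by omega
  have b4 : D.b g = 0 := by omega
  rw [e, hy, hm, hδ, b1, b3, b4, hb] at s
  rw [hW, hx, b3] at d4
  rw [hW, hx, b4] at d5
  omega

theorem sp4 (D : Dat G 1201) (hx : D.x = 2401) (hy : D.y = 2400) (hm : D.m = 5762400) {t : G}
    (ht : orderOf t = 2) (hj : D.j t = 2401) (hb : D.b t = 1) : PRankLE 2 2 G := by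
  classical
  have hδ : D.δ = -1 := by have := D.hy; omega
  have hW : (D.W : ℤ) = 5762400 := by rw [D.Wt t ht, hj, hb, hx]; norm_num
  have k : ∀ g : G, g ≠ 1 → g ^ 7 ^ 4 = 1 → ¬ 1201 ∣ orderOf g ∧ D.b g = 0 ∧ D.j g = 2400 ∧
      cc g = 7 ^ 4 := fun g g1 h => by
    have gp : ¬ 1201 ∣ orderOf g := fun h' =>
      absurd (h'.trans (orderOf_dvd_of_pow_eq_one h)) (by norm_num)
    have a1 := D.zero_one (by norm_num) hδ (by rw [hm, hx, hy]) g1 gp
    have a2 := D.cong' (by norm_num) 4 g h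
    have a3 := D.hj g g1 gp
    have a4 := D.Wg g g1 gp
    have a5 := D.jpos g1 gp
    rw [hx] at a2
    have b1 : D.b g = 0 := by omega
    have s0 := D.s2 {g} ⟨by simp [g1, gp], by simp⟩
    rw [Finset.sum_singleton, hy, hm, hδ, b1] at s0
    rw [hW, hx, b1] at a4
    rw [hm] at a3
    obtain h | h : D.j g = 2400 ∨ D.j g = 4800 := by omega
    all_goals rw [h] at a3; exact ⟨gp, b1, by omega, by omega⟩
  by_contra h
  obtain ⟨E, hE, h2⟩ := exists_E8 h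
  refine no_E8 (by rw [D.card, hm]) (fun g g1 h => (k g g1 h).2.2.2)
    (fun a b c a1 a7 b1 b7 c1 c7 => ?_) hE h2
  by_contra hn
  simp only [not_or] at hn
  obtain ⟨n1, n2, n3⟩ := hn
  obtain ⟨ap, ab, aj, -⟩ := k a a1 a7
  obtain ⟨bp, bb, bj, -⟩ := k b b1 b7
  obtain ⟨cp, cb, cj, -⟩ := k c c1 c7
  have s := D.s2 {a, b, c} ⟨by simp [a1, ap, b1, bp, c1, cp], by
    simp only [Finset.mem_insert, Finset.mem_singleton]
    rintro _ (rfl | rfl | rfl) _ (rfl | rfl | rfl) h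
    exacts [rfl, absurd h n1, absurd h n2, absurd h.symm n1, rfl, absurd h n3, absurd h.symm n2,
      absurd h.symm n3, rfl]⟩
  rw [Finset.sum_insert (by
    simp only [Finset.mem_insert, Finset.mem_singleton, not_or]
    exact ⟨fun h => n1 (h ▸ IsConj.refl _), fun h => n2 (h ▸ IsConj.refl _)⟩),
    Finset.sum_pair (fun h : b = c => n3 (h ▸ IsConj.refl _)), hy, hm, hδ, ab, aj, bb, bj, cb, cj] at s
  omega

end Cfsg.Agent.Alex.Dat
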